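import Groth.Agent.GmModel.Points
import Mathlib.AlgebraicGeometry.Morphisms.Smooth
import Mathlib.RingTheory.RingHom.Smooth

/-!
# The functions on an affine smooth model form a smooth algebra
-/

set_option autoImplicit false
set_option backward.isDefEq.respectTransparency.types false

universe u

open CategoryTheory AlgebraicGeometry

noncomputable section

namespace Groth.Agent.GmModel

theorem smooth_cr {R : Type u} [CommRing R] (G : Over (Spec (CommRingCat.of R))) [IsAffine G.left] [Smooth G.hom] :
    Algebra.Smooth R (cr G) := by
  rw [← RingHom.smooth_algebraMap]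
  have h := HasRingHomProperty.appTop (P := @Smooth) G.hom ‹_›
  exact (RingHom.Smooth.respectsIso.2 G.hom.appTop.hom
    (Scheme.ΓSpecIso (CommRingCat.of R)).symm.commRingCatIsoToRingEquiv h)

end Groth.Agent.GmModel
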