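import Groth.Agent.GmModel.Special
import Groth.Agent.GmModel.Setup
import Mathlib.RingTheory.Smooth.Flat
import Mathlib.RingTheory.UniqueFactorizationDomain.Multiplicity

/-!
# Affine smooth models of the additive group in residue characteristic zero
-/

set_option autoImplicit false
set_option backward.isDefEq.respectTransparency.types false

universe u

open CategoryTheory MonoidalCategory CartesianMonoidalCategory MonObj GrpObj AlgebraicGeometry Limits IsLocalRing TopologicalSpace
open scoped TensorProduct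

noncomputable section

namespace Groth.Agent.GmModel.Additive

variable {R : Type u} [CommRing R] [IsDomain R] [IsDiscreteValuationRing R]
variable {K : Type u} [Field K] [Algebra R K] [IsFractionRing R K]
variable {G : Over (Spec (CommRingCat.of R))} [IsAffine G.left] [GrpObj G]
  (e : Red.bc (Spec.map (CommRingCat.ofHom (algebraMap R K))) G ≅ Red.Ga (Spec (CommRingCat.of K))) [IsMonHom e.hom]

section Points

variable {B : Type u} [CommRing B] [Algebra K B] [Algebra R B] [IsScalarTower R K B]
variable {B' : Type u} [CommRing B'] [Algebra K B'] [Algebra R B'] [IsScalarTower R K B']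

/-- The coordinate of a point of the generic fibre. -/
def U (x : specR (R := R) B ⟶ G) : B :=
  (Scheme.ΓSpecIso (CommRingCat.of B)).hom
    (Red.gaFn ((Over.mapPullbackAdj (Spec.map (CommRingCat.ofHom (algebraMap R K)))).homEquiv (specK B) G ((cB B).inv ≫ x) ≫ e.hom))

lemma U_injective : Function.Injective (U e (B := B)) := fun x y h =>
  (cancel_epi (cB B).inv).1 (((Over.mapPullbackAdj (Spec.map (CommRingCat.ofHom (algebraMap R K)))).homEquiv (specK B) G).injective
    ((cancel_mono e.hom).1 (RedPts.ga_injective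
      ((Scheme.ΓSpecIso (CommRingCat.of B)).commRingCatIsoToRingEquiv.injective h))))

lemma U_surjective (b : B) : ∃ x : specR (R := R) B ⟶ G, U e x = b := by
  obtain ⟨y, hy⟩ := RedPts.ga_surjective (S := Spec (CommRingCat.of K)) (X := specK B)
    ((Scheme.ΓSpecIso (CommRingCat.of B)).inv b)
  refine ⟨(cB B).hom ≫ ((Over.mapPullbackAdj (Spec.map (CommRingCat.ofHom (algebraMap R K)))).homEquiv (specK B) G).symm (y ≫ e.inv), ?_⟩
  rw [U, Iso.inv_hom_id_assoc, Equiv.apply_symm_apply, Category.assoc, e.inv_hom_id, Category.comp_id, hy]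
  exact congr($((Scheme.ΓSpecIso (CommRingCat.of B)).inv_hom_id) b)

lemma U_mul (x y : specR (R := R) B ⟶ G) : U e (x * y) = U e x + U e y := by
  have h1 : (Over.mapPullbackAdj (Spec.map (CommRingCat.ofHom (algebraMap R K)))).homEquiv (specK B) G ((cB B).inv ≫ (x * y)) =
      (Over.mapPullbackAdj (Spec.map (CommRingCat.ofHom (algebraMap R K)))).homEquiv (specK B) G ((cB B).inv ≫ x) *
        (Over.mapPullbackAdj (Spec.map (CommRingCat.ofHom (algebraMap R K)))).homEquiv (specK B) G ((cB B).inv ≫ y) := by
    rw [MonObj.comp_mul, Adjunction.homEquiv_unit, Functor.map_mul, MonObj.comp_mul,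
      ← Adjunction.homEquiv_unit, ← Adjunction.homEquiv_unit]
  have h2 := (congrArg (fun z => Red.gaFn (z ≫ e.hom)) h1).trans
    ((congrArg Red.gaFn (MonObj.mul_comp _ _ e.hom)).trans (RedPts.ga_mul _ _))
  show (Scheme.ΓSpecIso (CommRingCat.of B)).hom _ = _
  rw [h2, map_add]
  rfl

lemma U_comp (φ : B →ₐ[K] B') (x : specR (R := R) B ⟶ G) : U e (spR (φ.restrictScalars R) ≫ x) = φ (U e x) := by
  let h : specK (K := K) B' ⟶ specK B := Over.homMk (Spec.map (CommRingCat.ofHom φ.toRingHom)) (by
    show Spec.map (CommRingCat.ofHom φ.toRingHom) ≫ Spec.map _ = Spec.map _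
    rw [← Spec.map_comp]
    exact congrArg Spec.map (CommRingCat.hom_ext φ.comp_algebraMap))
  have hc : (cB B').inv ≫ spR (φ.restrictScalars R) ≫ x =
      (Over.map (Spec.map (CommRingCat.ofHom (algebraMap R K)))).map h ≫ (cB B).inv ≫ x := by
    rw [← Category.assoc, ← Category.assoc]
    congr 1
  rw [U, hc, Adjunction.homEquiv_naturality_left, Category.assoc, RedPts.ga_comp]
  exact congr($(Scheme.ΓSpecIso_naturality (CommRingCat.ofHom φ.toRingHom)) _)

end Points

variable {xT : specR (R := R) (Polynomial K) ⟶ G}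

/-- Every point of the generic fibre comes from the universal one. -/
theorem exists_factor (hT : U e xT = Polynomial.X) {B : Type u} [CommRing B] [Algebra K B] [Algebra R B]
    [IsScalarTower R K B] (y : specR (R := R) B ⟶ G) :
    ∃ φ : Polynomial K →ₐ[K] B, pa y = (φ.restrictScalars R).comp (pa xT) ∧ φ Polynomial.X = U e y := by
  refine ⟨Polynomial.aeval (U e y), ?_, Polynomial.aeval_X _⟩
  rw [← pa_comp]
  congr 1
  refine U_injective e ?_
  rw [U_comp, hT, Polynomial.aeval_X]

/-- Every polynomial is a combination of the functions. -/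
theorem mem_span (hT : U e xT = Polynomial.X) (f : Polynomial K) : f ∈ Submodule.span K (Set.range (pa xT)) := by
  let S : Subalgebra K (Polynomial K) := Algebra.adjoin K (Set.range (pa xT))
  have h2 : Subalgebra.toSubmodule S = Submodule.span K (Set.range (pa xT)) := by
    rw [Algebra.adjoin_eq_span]
    congr 1
    refine le_antisymm ?_ Submonoid.subset_closure
    intro z hz
    exact ((Submonoid.closure_le (S := MonoidHom.mrange (pa xT).toRingHom.toMonoidHom)).2 fun _ h => h) hz
  rw [← h2, Subalgebra.mem_toSubmodule]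
  let φ : cr G →ₐ[R] S := AlgHom.codRestrict (pa xT) (S.restrictScalars R) fun a => Algebra.subset_adjoin ⟨a, rfl⟩
  have hx : spR (S.val.restrictScalars R) ≫ pp φ = xT := pa_injective (by
    rw [pa_comp, pa_pp]
    ext a
    rfl)
  have h1 : S.val (U e (pp φ)) = Polynomial.X := by rw [← U_comp, hx, hT]
  have hX : (Polynomial.X : Polynomial K) ∈ S := h1 ▸ (U e (pp φ)).2
  induction f using Polynomial.induction_on with
  | C a => exact S.algebraMap_mem a
  | add f g hf hg => exact S.add_mem hf hg
  | monomial n a _ => exact S.mul_mem (S.algebraMap_mem a) (S.pow_mem hX _)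

/-- Clearing denominators. -/
theorem exists_clear {ϖ : R} (hϖ : Irreducible ϖ) (hT : U e xT = Polynomial.X) (f : Polynomial K) :
    ∃ (N : ℕ) (a : cr G), pa xT a = algebraMap R (Polynomial K) (ϖ ^ N) * f := by
  have key : ∀ z ∈ Submodule.span K (Set.range (pa xT)),
      ∃ c : R, c ≠ 0 ∧ ∃ a : cr G, pa xT a = algebraMap R (Polynomial K) c * z := by
    intro z hz
    induction hz using Submodule.span_induction with
    | mem z hz => obtain ⟨a, rfl⟩ := hz; exact ⟨1, one_ne_zero, a, by rw [map_one, _root_.one_mul]⟩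
    | zero => exact ⟨1, one_ne_zero, 0, by rw [map_zero, mul_zero]⟩
    | add y z _ _ hy hz =>
      obtain ⟨c, hc, a, ha⟩ := hy
      obtain ⟨d, hd, b, hb⟩ := hz
      refine ⟨c * d, mul_ne_zero hc hd, algebraMap R (cr G) d * a + algebraMap R (cr G) c * b, ?_⟩
      rw [map_add, map_mul, map_mul, AlgHom.commutes, AlgHom.commutes, ha, hb, map_mul]
      ring
    | smul s z _ hz =>
      obtain ⟨c, hc, a, ha⟩ := hz
      obtain ⟨n, d, hd, rfl⟩ := IsFractionRing.div_surjective R s
      have hd' : d ≠ 0 := nonZeroDivisors.ne_zero hd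
      have hdK : algebraMap R K d ≠ 0 := fun h => hd' (IsFractionRing.injective R K (h.trans (map_zero _).symm))
      refine ⟨c * d, mul_ne_zero hc hd', algebraMap R (cr G) n * a, ?_⟩
      rw [map_mul, AlgHom.commutes, ha, map_mul, Algebra.smul_def, IsScalarTower.algebraMap_apply R K (Polynomial K) d,
        IsScalarTower.algebraMap_apply R K (Polynomial K) n, IsScalarTower.algebraMap_apply R K (Polynomial K) c,
        div_eq_mul_inv, map_mul]
      have h1 : algebraMap K (Polynomial K) (algebraMap R K d) * algebraMap K (Polynomial K) (algebraMap R K d)⁻¹ = 1 := by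
        rw [← map_mul, mul_inv_cancel₀ hdK, map_one]
      linear_combination (-(algebraMap K (Polynomial K) (algebraMap R K c) * algebraMap K (Polynomial K) (algebraMap R K n) * z)) * h1
  obtain ⟨c, hc, a, ha⟩ := key _ (mem_span e hT f)
  obtain ⟨N, u, rfl⟩ := IsDiscreteValuationRing.eq_unit_mul_pow_irreducible hc hϖ
  refine ⟨N, algebraMap R (cr G) (u⁻¹ : Rˣ) * a, ?_⟩
  rw [map_mul, AlgHom.commutes, ha, ← _root_.mul_assoc, ← map_mul, ← _root_.mul_assoc, Units.inv_mul, _root_.one_mul]

variable [Algebra.Smooth R (cr G)]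

/-- The functions embed into those of the generic fibre. -/
theorem pa_xT_injective (hT : U e xT = Polynomial.X) : Function.Injective (pa xT) := by
  let inc : cr G →ₐ[R] K ⊗[R] cr G := Algebra.TensorProduct.includeRight
  obtain ⟨φ, hφ, -⟩ := exists_factor e hT (pp inc)
  rw [pa_pp] at hφ
  have hi : Function.Injective inc := Algebra.TensorProduct.includeRight_injective (IsFractionRing.injective R K)
  intro a b h
  exact hi (by rw [hφ, AlgHom.comp_apply, AlgHom.comp_apply, h])

/-- A coordinate not divisible by the uniformiser. -/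
theorem exists_coord {ϖ : R} (hϖ : Irreducible ϖ) (hT : U e xT = Polynomial.X) :
    ∃ (s : K) (t : cr G), s ≠ 0 ∧ pa xT t = Polynomial.C s * Polynomial.X ∧ ¬ algebraMap R (cr G) ϖ ∣ t := by
  have hinj := pa_xT_injective e hT
  have : IsDomain (cr G) := hinj.isDomain _
  have : IsNoetherianRing (cr G) := Algebra.FiniteType.isNoetherianRing R (cr G)
  obtain ⟨N, a, ha⟩ := exists_clear e hϖ hT Polynomial.X
  have hp : algebraMap R K ϖ ≠ 0 := fun h => hϖ.ne_zero (IsFractionRing.injective R K (h.trans (map_zero _).symm))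
  have ha0 : a ≠ 0 := by
    rintro rfl
    rw [map_zero, IsScalarTower.algebraMap_apply R K (Polynomial K), map_pow] at ha
    exact mul_ne_zero (by
      rw [show (algebraMap K (Polynomial K)) (algebraMap R K ϖ ^ N) = Polynomial.C (algebraMap R K ϖ ^ N) from rfl,
        Polynomial.C_ne_zero]
      exact pow_ne_zero _ hp) Polynomial.X_ne_zero ha.symm
  have hnu : ¬ IsUnit (algebraMap R (cr G) ϖ) := fun h => hϖ.not_isUnit (by
    simpa using h.map (pa (1 : specR (R := R) R ⟶ G)))
  obtain ⟨n, t, ht, rfl⟩ := WfDvdMonoid.max_power_factor' ha0 hnu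
  refine ⟨algebraMap R K ϖ ^ N / algebraMap R K ϖ ^ n, t, div_ne_zero (pow_ne_zero _ hp) (pow_ne_zero _ hp), ?_, ht⟩
  rw [map_mul, map_pow, AlgHom.commutes, IsScalarTower.algebraMap_apply R K (Polynomial K),
    IsScalarTower.algebraMap_apply R K (Polynomial K) (ϖ ^ N)] at ha
  change Polynomial.C _ ^ n * _ = Polynomial.C _ * _ at ha
  refine mul_left_cancel₀ (pow_ne_zero n (Polynomial.C_ne_zero.2 hp)) (ha.trans ?_)
  rw [← _root_.mul_assoc, ← map_pow Polynomial.C, ← map_mul, mul_div_cancel₀ _ (pow_ne_zero _ hp), map_pow (algebraMap R K)]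

section Coord

variable {t : cr G} {s : K} (hT : U e xT = Polynomial.X) (ht : pa xT t = Polynomial.C s * Polynomial.X)

include hT ht

omit [Algebra.Smooth R (cr G)] in
/-- The coordinate is additive over torsion-free algebras. -/
theorem coord_mul_flat {B : Type u} [CommRing B] [Algebra R B] [Module.Flat R B] (x y : specR (R := R) B ⟶ G) :
    pa (x * y) t = pa x t + pa y t := by
  let inc : B →ₐ[R] K ⊗[R] B := Algebra.TensorProduct.includeRight
  have hi : Function.Injective inc := Algebra.TensorProduct.includeRight_injective (IsFractionRing.injective R K)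
  have hU : ∀ z : specR (R := R) (K ⊗[R] B) ⟶ G, pa z t = algebraMap K (K ⊗[R] B) s * U e z := fun z => by
    obtain ⟨φ, hφ, hφT⟩ := exists_factor e hT z
    rw [hφ, AlgHom.comp_apply, ht]
    show φ _ = _
    rw [map_mul, hφT]
    exact congrArg (· * _) (φ.commutes s)
  have hc : ∀ z : specR (R := R) B ⟶ G, inc (pa z t) = algebraMap K (K ⊗[R] B) s * U e (B := K ⊗[R] B) (spR inc ≫ z) := fun z => by
    rw [← hU, pa_comp]
    rfl
  apply hi
  rw [map_add, hc, hc, hc, MonObj.comp_mul, U_mul, mul_add]

omit [Algebra.Smooth R (cr G)] in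
lemma coord_one : pa (1 : specR (R := R) R ⟶ G) t = 0 := by
  have h := coord_mul_flat e hT ht (1 : specR (R := R) R ⟶ G) 1
  rw [_root_.one_mul] at h
  exact left_eq_add.1 h

omit [Algebra.Smooth R (cr G)] in
lemma coord_pow (g : specR (R := R) R ⟶ G) (n : ℕ) : pa (g ^ n) t = n * pa g t := by
  induction n with
  | zero => rw [pow_zero, coord_one e hT ht, Nat.cast_zero, zero_mul]
  | succ n ih => rw [pow_succ, coord_mul_flat e hT ht, ih]; push_cast; ring

variable [IsAdicComplete (maximalIdeal R) R] [IsAlgClosed (ResidueField R)] [CharZero (ResidueField R)]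

/-- The coordinate takes infinitely many special values. -/
theorem infinite_range {ϖ : R} (hϖ : Irreducible ϖ) (hnd : ¬ algebraMap R (cr G) ϖ ∣ t) :
    (Set.range fun x : 𝟙_ (Over (Spec (CommRingCat.of (ResidueField R)))) ⟶ sf G => pa (up x) t).Infinite := by
  obtain ⟨φ, hφ⟩ : ∃ φ : cr G →ₐ[R] ResidueField R, φ t ≠ 0 := by
    by_contra h
    push Not at h
    have h2 := mem_of_residue t h
    rw [hϖ.maximalIdeal_eq, Ideal.map_span, Set.image_singleton, Ideal.mem_span_singleton] at h2
    exact hnd h2
  obtain ⟨ψ, hψ⟩ := Algebra.FormallySmooth.exists_mkₐ_comp_eq_of_isAdicComplete (I := maximalIdeal R) (S := R)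
    (A := cr G) (R := R) φ
  have hv : residue R (pa (pp ψ) t) ≠ 0 := by
    rw [pa_pp]
    rw [← hψ] at hφ
    exact hφ
  refine (Set.infinite_range_of_injective (f := fun n : ℕ => (n : ResidueField R) * residue R (pa (pp ψ) t))
    fun a b hab => Nat.cast_injective (mul_right_cancel₀ hv hab)).mono ?_
  rintro _ ⟨n, rfl⟩
  refine ⟨red (pp ψ ^ n), ?_⟩
  show pa (up (red _)) t = _
  rw [pa_up_red, coord_pow e hT ht, map_mul, map_natCast]

omit [CharZero (ResidueField R)] [IsAdicComplete (maximalIdeal R) R] [IsAlgClosed (ResidueField R)] in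
/-- The functions are the polynomials in the coordinate, once it takes infinitely many special values. -/
theorem aeval_bijective (hs : s ≠ 0)
    (hinf : (Set.range fun x : 𝟙_ (Over (Spec (CommRingCat.of (ResidueField R)))) ⟶ sf G => pa (up x) t).Infinite) :
    Function.Bijective (Polynomial.aeval (R := R) t) := by
  obtain ⟨ϖ, hϖ⟩ := IsDiscreteValuationRing.exists_irreducible R
  have hκ : ∀ P : Polynomial R, pa xT (Polynomial.aeval t P) =
      Polynomial.aeval (R := K) (Polynomial.C s * Polynomial.X) (P.map (algebraMap R K)) := fun P => by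
    rw [Polynomial.aeval_map_algebraMap, ← Polynomial.aeval_algHom_apply, ht]
  have hκi : Function.Injective fun P => pa xT (Polynomial.aeval t P) := fun P Q h => by
    replace h := (hκ P).symm.trans (h.trans (hκ Q))
    have h2 := congrArg (Polynomial.aeval (R := K) (Polynomial.C s⁻¹ * Polynomial.X)) h
    have h3 : ∀ W : Polynomial K, Polynomial.aeval (R := K) (Polynomial.C s⁻¹ * Polynomial.X)
        (Polynomial.aeval (R := K) (Polynomial.C s * Polynomial.X) W) = W := fun W => by
      rw [← Polynomial.aeval_algHom_apply, map_mul, Polynomial.aeval_C, Polynomial.aeval_X,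
        show algebraMap K (Polynomial K) s = Polynomial.C s from rfl, ← _root_.mul_assoc, ← map_mul,
        mul_inv_cancel₀ hs, map_one, _root_.one_mul, Polynomial.aeval_X_left_apply]
    rw [h3, h3] at h2
    exact Polynomial.map_injective _ (IsFractionRing.injective R K) h2
  refine ⟨fun g g' h => hκi (congrArg (pa xT) h), fun a => ?_⟩
  have hden : ∀ f : Polynomial K, ∃ (N : ℕ) (g : Polynomial R),
      pa xT (Polynomial.aeval t g) = algebraMap R (Polynomial K) (ϖ ^ N) * f := by
    intro f
    induction f using Polynomial.induction_on' with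
    | add f f' hf hf' =>
      obtain ⟨N, g, hg⟩ := hf
      obtain ⟨N', g', hg'⟩ := hf'
      refine ⟨N + N', algebraMap R _ (ϖ ^ N') * g + algebraMap R _ (ϖ ^ N) * g', ?_⟩
      rw [map_add, map_add, map_mul, map_mul, AlgHom.commutes, AlgHom.commutes, map_mul, map_mul, AlgHom.commutes,
        AlgHom.commutes, hg, hg', pow_add, map_mul]
      ring
    | monomial n c =>
      obtain ⟨b, d, hd, hbd⟩ := IsFractionRing.div_surjective R (c / s ^ n)
      obtain ⟨N, v, rfl⟩ := IsDiscreteValuationRing.eq_unit_mul_pow_irreducible (nonZeroDivisors.ne_zero hd) hϖ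
      refine ⟨N, Polynomial.C (b * (v⁻¹ : Rˣ)) * Polynomial.X ^ n, ?_⟩
      rw [hκ, Polynomial.map_mul, Polynomial.map_pow, Polynomial.map_C, Polynomial.map_X, map_mul, map_pow,
        Polynomial.aeval_C, Polynomial.aeval_X, IsScalarTower.algebraMap_apply R K (Polynomial K),
        ← Polynomial.C_mul_X_pow_eq_monomial, mul_pow, ← map_pow Polynomial.C, ← _root_.mul_assoc, ← _root_.mul_assoc]
      show Polynomial.C _ * Polynomial.C _ * _ = Polynomial.C _ * Polynomial.C _ * _
      rw [← map_mul, ← map_mul]
      congr 2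
      have hp : algebraMap R K ϖ ≠ 0 := fun h => hϖ.ne_zero (IsFractionRing.injective R K (h.trans (map_zero _).symm))
      have hv : algebraMap R K (v : R) ≠ 0 := (v.isUnit.map (algebraMap R K)).ne_zero
      simp only [map_mul, map_pow, map_units_inv] at hbd ⊢
      field_simp at hbd ⊢
      linear_combination hbd
  obtain ⟨N, g, hg⟩ := hden (pa xT a)
  replace hg : Polynomial.aeval t g = algebraMap R (cr G) (ϖ ^ N) * a :=
    pa_xT_injective e hT (by rw [hg, map_mul, AlgHom.commutes])
  induction N generalizing g with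
  | zero => exact ⟨g, by rw [hg, pow_zero, map_one, _root_.one_mul]⟩
  | succ N ih =>
    have hzero : ∀ x : 𝟙_ (Over (Spec (CommRingCat.of (ResidueField R)))) ⟶ sf G,
        (g.map (residue R)).IsRoot (pa (up x) t) := by
      intro x
      have h1 : pa (up x) (Polynomial.aeval t g) = 0 := by
        rw [hg, map_mul, AlgHom.commutes,
          show algebraMap R (ResidueField R) (ϖ ^ (N + 1)) = 0 by
            rw [map_pow, show algebraMap R (ResidueField R) ϖ = 0 by
              show residue R ϖ = 0
              rw [residue_eq_zero_iff, hϖ.maximalIdeal_eq]; exact Ideal.mem_span_singleton_self ϖ, zero_pow N.succ_ne_zero],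
          zero_mul]
      rw [← Polynomial.aeval_algHom_apply] at h1
      rw [Polynomial.IsRoot, Polynomial.eval_map]
      exact h1
    have hP0 : g.map (residue R) = 0 := Polynomial.eq_zero_of_infinite_isRoot _
      (hinf.mono (by rintro _ ⟨x, rfl⟩; exact hzero x))
    obtain ⟨P', rfl⟩ : Polynomial.C ϖ ∣ g := by
      rw [Polynomial.C_dvd_iff_dvd_coeff]
      intro i
      have := congrArg (fun Q : Polynomial (ResidueField R) => Q.coeff i) hP0
      rwa [Polynomial.coeff_map, Polynomial.coeff_zero, residue_eq_zero_iff, hϖ.maximalIdeal_eq,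
        Ideal.mem_span_singleton] at this
    refine ih P' ?_
    refine pa_xT_injective e hT (mul_left_cancel₀ (a := algebraMap R (Polynomial K) ϖ) ?_ ?_)
    · rw [IsScalarTower.algebraMap_apply R K (Polynomial K)]
      refine fun h => hϖ.ne_zero (IsFractionRing.injective R K ?_)
      rw [map_zero]
      exact (algebraMap K (Polynomial K)).injective (h.trans (map_zero _).symm)
    · have := congrArg (pa xT) hg
      simp only [map_mul, Polynomial.aeval_C, AlgHom.commutes, pow_succ', _root_.mul_assoc] at this ⊢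
      exact this

omit [CharZero (ResidueField R)] [IsAdicComplete (maximalIdeal R) R] in
/-- The special fibre is connected. -/
theorem connectedSpace_sf [Smooth G.hom] [LocallyOfFiniteType G.hom] (hs : s ≠ 0)
    (hinf : (Set.range fun x : 𝟙_ (Over (Spec (CommRingCat.of (ResidueField R)))) ⟶ sf G => pa (up x) t).Infinite) :
    ConnectedSpace (sf G).left := by
  have : LocallyOfFiniteType (sf G).hom := MorphismProperty.pullback_snd (P := @LocallyOfFiniteType) G.hom _ ‹_›
  have : Smooth (sf G).hom := MorphismProperty.pullback_snd (P := @Smooth) G.hom _ ‹_›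
  let kk := ResidueField R
  let eqv := AlgEquiv.ofBijective _ (aeval_bijective e hT ht hs hinf)
  let ψk : cr G →ₐ[R] Polynomial kk := (Polynomial.aeval (R := R) (Polynomial.X : Polynomial kk)).comp eqv.symm.toAlgHom
  let M : Spec (CommRingCat.of (Polynomial kk)) ⟶ (sf G).left :=
    pullback.lift (pp ψk).left (Spec.map (CommRingCat.ofHom (algebraMap kk (Polynomial kk)))) (by
      rw [Over.w (pp ψk)]
      show Spec.map _ = _
      rw [← Spec.map_comp, ← CommRingCat.ofHom_comp]
      congr 2)
  have hpts : ∀ x : 𝟙_ (Over (Spec (CommRingCat.of kk))) ⟶ sf G, NeronSplitP.pt (sf G) x ∈ Set.range M := by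
    intro x
    let q : Polynomial kk →ₐ[kk] kk := Polynomial.aeval (pa (up x) t)
    have h1 : pa (up x) = (q.restrictScalars R).comp ψk := by
      apply AlgHom.ext
      intro a
      obtain ⟨g, rfl⟩ := eqv.surjective a
      show pa (up x) (Polynomial.aeval t g) = q (Polynomial.aeval (Polynomial.X : Polynomial kk) (eqv.symm (eqv g)))
      rw [AlgEquiv.symm_apply_apply, ← Polynomial.aeval_algHom_apply]
      show _ = (q.restrictScalars R) (Polynomial.aeval (Polynomial.X : Polynomial kk) g)
      rw [← Polynomial.aeval_algHom_apply]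
      congr 2
      exact (Polynomial.aeval_X _).symm
    have h2 : spR (q.restrictScalars R) ≫ pp ψk = up x := pa_injective (by rw [pa_comp, pa_pp, h1])
    have h3 : (up x).left = x.left ≫ pullback.fst G.hom (Spec.map (CommRingCat.ofHom (residue R))) := by
      simp [up, c0, Adjunction.homEquiv_counit]
    have h4 : Spec.map (CommRingCat.ofHom q.toRingHom) ≫ M = x.left := by
      apply pullback.hom_ext
      · rw [Category.assoc, pullback.lift_fst, ← h3, ← h2]
        rfl
      · rw [Category.assoc, pullback.lift_snd, ← Spec.map_comp, ← CommRingCat.ofHom_comp]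
        refine Eq.trans ?_ (Over.w x).symm
        show Spec.map _ = 𝟙 (Spec (CommRingCat.of kk))
        rw [← Spec.map_id]
        congr 1
        ext c
        exact q.commutes c
    refine ⟨(Spec.map (CommRingCat.ofHom q.toRingHom)) (closedPoint kk), ?_⟩
    rw [← Scheme.Hom.comp_apply, h4]
  have hd : closure (Set.range M) = Set.univ := by
    by_contra hne
    obtain ⟨x, hx⟩ := NeronSplitP.exists_pt_mem (sf G) (Z := (closure (Set.range M))ᶜ)
      (Set.nonempty_compl.2 hne) isClosed_closure.isOpen_compl.isLocallyClosed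
    exact hx (subset_closure (hpts x))
  rw [connectedSpace_iff_univ, ← hd]
  refine IsConnected.closure ?_
  rw [← Set.image_univ]
  exact (isConnected_univ (α := PrimeSpectrum (Polynomial kk))).image _ M.continuous.continuousOn

omit [CharZero (ResidueField R)] [IsAdicComplete (maximalIdeal R) R] [IsAlgClosed (ResidueField R)] in
/-- The model is the additive group. -/
theorem exists_iso [Smooth G.hom] [IsAffineHom G.hom] (hs : s ≠ 0)
    (hinf : (Set.range fun x : 𝟙_ (Over (Spec (CommRingCat.of (ResidueField R)))) ⟶ sf G => pa (up x) t).Infinite) :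
    ∃ e' : G ≅ Red.Ga (Spec (CommRingCat.of R)), IsMonHom e'.hom := by
  obtain ⟨e', he'⟩ := RedPts.ga_surjective (S := Spec (CommRingCat.of R)) (X := G) t
  have hmul : μ[G] ≫ e' = (fst G G ≫ e') * (snd G G ≫ e') := by
    apply RedPts.ga_injective
    rw [RedPts.ga_mul, RedPts.ga_comp, RedPts.ga_comp, RedPts.ga_comp, he']
    have : Smooth (G ⊗ G).hom := by
      show Smooth (pullback.fst G.hom G.hom ≫ G.hom)
      exact MorphismProperty.comp_mem @Smooth _ _ (MorphismProperty.pullback_fst (P := @Smooth) _ _ ‹_›) ‹_›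
    have : IsAffine (G ⊗ G).left := inferInstanceAs (IsAffine (pullback G.hom G.hom))
    have := smooth_cr (G ⊗ G)
    let sGG : specR (R := R) (cr (G ⊗ G)) ⟶ G ⊗ G := pp (AlgHom.id R _)
    have hsGG : ∀ a, pa sGG a = a := fun a => AlgHom.congr_fun (pa_pp (AlgHom.id R (cr (G ⊗ G)))) a
    have hthen : ∀ (f : G ⊗ G ⟶ G) (a : cr G), pa (sGG ≫ f) a = pa sGG (f.left.appTop a) := fun _ _ => rfl
    have h := coord_mul_flat e hT ht (sGG ≫ fst G G) (sGG ≫ snd G G)
    rw [Hom.mul_def, ← comp_lift, lift_fst_snd, Category.comp_id, hthen, hthen, hthen, hsGG, hsGG, hsGG] at h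
    exact h
  have : IsMonHom e' := by
    have hm : μ[G] ≫ e' = (e' ⊗ₘ e') ≫ μ[Red.Ga (Spec (CommRingCat.of R))] := by
      rw [hmul, Hom.mul_def, ← tensorHom_fst e' e', ← tensorHom_snd e' e', ← comp_lift_assoc, lift_fst_snd, Category.id_comp]
    refine ⟨?_, hm⟩
    apply RedPts.ga_injective
    have h1 : (η[G] ≫ e') * (η[G] ≫ e') = η[G] ≫ e' := by
      rw [Hom.mul_def, show lift (η[G] ≫ e') (η[G] ≫ e') = lift η[G] η[G] ≫ (e' ⊗ₘ e') by simp, Category.assoc, ← hm,
        ← Category.assoc, ← Hom.mul_def, show (η[G] : 𝟙_ _ ⟶ G) = 1 by rw [Hom.one_def, toUnit_unique (toUnit _) (𝟙 _), Category.id_comp],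
        _root_.one_mul]
    rw [show (η[Red.Ga (Spec (CommRingCat.of R))] : 𝟙_ _ ⟶ _) = 1 by
      rw [Hom.one_def, toUnit_unique (toUnit _) (𝟙 _), Category.id_comp]]
    have h2 : ∀ a : 𝟙_ (Over (Spec (CommRingCat.of R))) ⟶ Red.Ga (Spec (CommRingCat.of R)), a * a = a → Red.gaFn a = 0 :=
      fun a ha => add_eq_left.1 ((RedPts.ga_mul a a).symm.trans (congrArg Red.gaFn ha))
    exact (h2 _ h1).trans (h2 _ (_root_.one_mul _)).symm
  let Ga := Red.Ga (Spec (CommRingCat.of R))
  haveI : IsAffine (RedPts.specA RedPts.symA.{u}).left := inferInstanceAs (IsAffine (Spec _))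
  haveI : IsAffine Ga.left := inferInstanceAs (IsAffine (pullback (RedPts.specA RedPts.symA.{u}).hom (RedPts.toZ _)))
  let eqv := AlgEquiv.ofBijective _ (aeval_bijective e hT ht hs hinf)
  let ψ : cr G →ₐ[R] cr Ga := (Polynomial.aeval (Red.gaFn (𝟙 Ga) : cr Ga)).comp eqv.symm.toAlgHom
  have hψ : ψ t = Red.gaFn (𝟙 Ga) := by
    have hsymm : eqv.symm t = Polynomial.X := by
      rw [AlgEquiv.symm_apply_eq]
      show t = Polynomial.aeval t Polynomial.X
      rw [Polynomial.aeval_X]
    show Polynomial.aeval _ (eqv.symm t) = _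
    rw [hsymm, Polynomial.aeval_X]
  let sA : specR (R := R) (cr Ga) ⟶ Ga := pp (AlgHom.id R _)
  have : IsIso sA.left := by
    show IsIso (Spec.map (CommRingCat.ofHom (RingHom.id (cr Ga))) ≫ Ga.left.isoSpec.inv)
    rw [CommRingCat.ofHom_id, Spec.map_id, Category.id_comp]
    infer_instance
  haveI : IsIso sA := by
    have : IsIso ((Over.forget _).map sA) := ‹IsIso sA.left›
    exact isIso_of_reflects_iso sA (Over.forget _)
  let i : Ga ⟶ G := CategoryTheory.inv sA ≫ pp ψ
  have hi : ∀ a, i.left.appTop a = ψ a := fun a => by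
    have h1 : pa (sA ≫ i) a = ψ a := by
      rw [show sA ≫ i = pp ψ by rw [← Category.assoc, IsIso.hom_inv_id, Category.id_comp], pa_pp]
    exact ((AlgHom.congr_fun (pa_pp (AlgHom.id R (cr Ga))) (i.left.appTop a)).symm).trans h1
  have h1 : i ≫ e' = 𝟙 Ga := by
    apply RedPts.ga_injective
    rw [RedPts.ga_comp, he', hi, hψ]
  have h2 : e' ≫ i = 𝟙 G := by
    let sG : specR (R := R) (cr G) ⟶ G := pp (AlgHom.id R _)
    have hsG : ∀ a, pa sG a = a := fun a => AlgHom.congr_fun (pa_pp (AlgHom.id R (cr G))) a
    have h3 : pa (sG ≫ e' ≫ i) t = t := by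
      show pa sG ((e' ≫ i).left.appTop t) = t
      rw [hsG]
      show e'.left.appTop (i.left.appTop t) = t
      rw [hi, hψ, ← RedPts.ga_comp, Category.comp_id, he']
    refine Over.OverMorphism.ext (ext_of_isAffine ?_)
    ext a
    show (e' ≫ i).left.appTop a = a
    obtain ⟨g, rfl⟩ := eqv.surjective a
    rw [← hsG ((e' ≫ i).left.appTop (eqv g))]
    show pa (sG ≫ e' ≫ i) (Polynomial.aeval t g) = Polynomial.aeval t g
    rw [← Polynomial.aeval_algHom_apply, h3]
  exact ⟨⟨e', i, h2, h1⟩, ‹IsMonHom e'›⟩

end Coord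

end Groth.Agent.GmModel.Additive
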