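import Groth.Agent.GmModel.Additive
import Mathlib.RingTheory.Localization.Away.Basic
import Mathlib.AlgebraicGeometry.Morphisms.OpenImmersion

/-!
# The identity component of an affine smooth model of the additive group
-/

set_option autoImplicit false
set_option backward.isDefEq.respectTransparency.types false

universe u

open CategoryTheory MonoidalCategory CartesianMonoidalCategory MonObj GrpObj AlgebraicGeometry Limits IsLocalRing TopologicalSpace
open scoped TensorProduct

noncomputable section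

namespace Groth.Agent.GmModel.Additive

variable {R : Type u} [CommRing R] [IsDomain R] [IsDiscreteValuationRing R]
variable {K : Type u} [Field K] [Algebra R K] [IsFractionRing R K]
variable {G : Over (Spec (CommRingCat.of R))} [IsAffine G.left] [GrpObj G]
  (e : Red.bc (Spec.map (CommRingCat.ofHom (algebraMap R K))) G ≅ Red.Ga (Spec (CommRingCat.of K))) [IsMonHom e.hom]
variable {xT : specR (R := R) (Polynomial K) ⟶ G} [Algebra.Smooth R (cr G)]

section PGroup

variable {t : cr G} {s : K} (hT : U e xT = Polynomial.X) (ht : pa xT t = Polynomial.C s * Polynomial.X)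

omit [Algebra.Smooth R (cr G)] in
include hT in
/-- The functions of an integral point are polynomials in its coordinate. -/
theorem pa_eval (g : specR (R := R) R ⟶ G) (b : cr G) :
    algebraMap R K (pa g b) = (pa xT b).eval (U e (B := K) (pK K g)) := by
  obtain ⟨φ, hφ, hφX⟩ := exists_factor e hT (B := K) (pK K g)
  rw [← pa_pK, hφ, ← hφX]
  show φ (pa xT b) = _
  conv_lhs => rw [← Polynomial.aeval_X_left_apply (pa xT b), ← Polynomial.aeval_algHom_apply]
  rw [Polynomial.coe_aeval_eq_eval]

omit [Algebra.Smooth R (cr G)] [IsAffine G.left] [GrpObj G] [IsMonHom e.hom] in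
/-- Difference quotients of a polynomial are bounded. -/
theorem exists_sub_bound (f : Polynomial K) : ∃ d : R, d ≠ 0 ∧ ∀ v : R, ∃ r : R,
    algebraMap R K d * (f.eval (algebraMap R K v) - f.eval 0) = algebraMap R K (v * r) := by
  induction f using Polynomial.induction_on' with
  | add f g hf hg =>
    obtain ⟨d, hd, hf⟩ := hf
    obtain ⟨c, hc, hg⟩ := hg
    refine ⟨d * c, mul_ne_zero hd hc, fun v => ?_⟩
    obtain ⟨r, hr⟩ := hf v
    obtain ⟨r', hr'⟩ := hg v
    refine ⟨c * r + d * r', ?_⟩
    simp only [map_add, map_mul, Polynomial.eval_add] at hr hr' ⊢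
    linear_combination algebraMap R K c * hr + algebraMap R K d * hr'
  | monomial n a =>
    obtain ⟨b, d, hd, rfl⟩ := IsFractionRing.div_surjective R a
    refine ⟨d, nonZeroDivisors.ne_zero hd, fun v => ?_⟩
    cases n with
    | zero => exact ⟨0, by simp⟩
    | succ n =>
      refine ⟨b * v ^ n, ?_⟩
      have hdK : algebraMap R K d ≠ 0 := fun h =>
        nonZeroDivisors.ne_zero hd (IsFractionRing.injective R K (h.trans (map_zero _).symm))
      simp only [Polynomial.eval_monomial, zero_pow n.succ_ne_zero, mul_zero, sub_zero, map_mul, map_pow]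
      field_simp
      ring

include hT ht in
/-- The special fibre is killed by a power of the residue characteristic. -/
theorem exists_pPow [IsAdicComplete (maximalIdeal R) R] (hs : s ≠ 0) (p : ℕ) [CharP (ResidueField R) p] :
    ∃ c : ℕ, ∀ x : 𝟙_ (Over (Spec (CommRingCat.of (ResidueField R)))) ⟶ sf G, x ^ (p ^ c) = 1 := by
  classical
  obtain ⟨ϖ, hϖ⟩ := IsDiscreteValuationRing.exists_irreducible R
  obtain ⟨S, hS⟩ := Algebra.FiniteType.out (R := R) (A := cr G)
  have hev : ∀ (g : specR (R := R) R ⟶ G) (b : cr G),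
      algebraMap R K (pa g b) = ((pa xT b).comp (Polynomial.C s⁻¹ * Polynomial.X)).eval (algebraMap R K (pa g t)) := by
    intro g b
    rw [Polynomial.eval_comp, pa_eval e hT g b, pa_eval e hT g t, ht]
    simp [hs]
  have key : ∀ b : cr G, ∃ c : ℕ, ∀ g : specR (R := R) R ⟶ G, ϖ ^ c ∣ pa g t → ϖ ∣ pa g b - pa 1 b := by
    intro b
    obtain ⟨d, hd, hb⟩ := exists_sub_bound (R := R) ((pa xT b).comp (Polynomial.C s⁻¹ * Polynomial.X))
    obtain ⟨M, v, rfl⟩ := IsDiscreteValuationRing.eq_unit_mul_pow_irreducible hd hϖ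
    refine ⟨M + 1, fun g hg => ?_⟩
    obtain ⟨r, hr⟩ := hb (pa g t)
    obtain ⟨w, hw⟩ := hg
    rw [← hev g b, ← map_zero (algebraMap R K), ← coord_one e hT ht, ← hev 1 b, ← map_sub, ← map_mul] at hr
    have h2 := IsFractionRing.injective R K hr
    rw [hw] at h2
    refine ⟨(v⁻¹ : Rˣ) * w * r, mul_left_cancel₀ (pow_ne_zero M hϖ.ne_zero) ?_⟩
    have hv : ((v⁻¹ : Rˣ) : R) * v = 1 := Units.inv_mul v
    linear_combination ((v⁻¹ : Rˣ) : R) * h2 - ϖ ^ M * (pa g b - pa 1 b) * hv
  choose c hc using key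
  refine ⟨S.sup c, fun x => ?_⟩
  obtain ⟨g, rfl⟩ := red_surjective x
  rw [← red_pow, ← red_one, red_eq_iff]
  have hp : ϖ ∣ (p : R) := by
    rw [← Ideal.mem_span_singleton, ← hϖ.maximalIdeal_eq, ← residue_eq_zero_iff, map_natCast, CharP.cast_eq_zero]
  have h1 : (Algebra.ofId R (ResidueField R)).comp (pa (g ^ (p ^ S.sup c))) = (Algebra.ofId R (ResidueField R)).comp (pa 1) := by
    refine AlgHom.ext_of_adjoin_eq_top hS fun a ha => ?_
    show residue R (pa (g ^ _) a) = residue R (pa 1 a)
    rw [← sub_eq_zero, ← map_sub, residue_eq_zero_iff, hϖ.maximalIdeal_eq, Ideal.mem_span_singleton]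
    refine hc a _ ((pow_dvd_pow ϖ (Finset.le_sup ha)).trans ?_)
    rw [coord_pow e hT ht, Nat.cast_pow]
    exact (pow_dvd_pow_of_dvd hp _).mul_right _
  exact fun a => AlgHom.congr_fun h1 a

end PGroup

section Ident

variable [IsAdicComplete (maximalIdeal R) R] [IsAlgClosed (ResidueField R)] [Smooth G.hom] [IsAffineHom G.hom]
  [LocallyOfFiniteType G.hom]

omit [Algebra.Smooth R (cr G)] [IsAdicComplete (maximalIdeal R) R] [IsAlgClosed (ResidueField R)] [IsDomain R]
  [IsDiscreteValuationRing R] [GrpObj G] [Smooth G.hom] [IsAffineHom G.hom] [LocallyOfFiniteType G.hom] in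
/-- A special point in the spectrum of the functions. -/
lemma mem_point_iff [IsLocalRing R] (x : 𝟙_ (Over (Spec (CommRingCat.of (ResidueField R)))) ⟶ sf G) (f : cr G) :
    f ∈ ((pullback.fst G.hom (Spec.map (CommRingCat.ofHom (residue R))) ≫ G.left.isoSpec.hom)
      (NeronSplitP.pt (sf G) x) : PrimeSpectrum (cr G)).asIdeal ↔ pa (up x) f = 0 := by
  have h1 : (up x).left = x.left ≫ pullback.fst G.hom (Spec.map (CommRingCat.ofHom (residue R))) := by
    simp [up, c0, Adjunction.homEquiv_counit]
  have h2 : pp (pa (up x)) = up x := pa_injective (pa_pp _)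
  have h3 : (up x).left ≫ G.left.isoSpec.hom = Spec.map (CommRingCat.ofHom (pa (up x)).toRingHom) := by
    rw [← h2]
    show (_ ≫ G.left.isoSpec.inv) ≫ _ = _
    rw [Category.assoc, Iso.inv_hom_id, Category.comp_id, h2]
  have h4 : (pullback.fst G.hom (Spec.map (CommRingCat.ofHom (residue R))) ≫ G.left.isoSpec.hom) (NeronSplitP.pt (sf G) x) =
      (Spec.map (CommRingCat.ofHom (pa (up x)).toRingHom)) (closedPoint (ResidueField R)) := by
    rw [← h3, h1, Category.assoc]
    exact (Scheme.Hom.comp_apply _ _ _).symm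
  rw [h4]
  show pa (up x) f ∈ maximalIdeal (ResidueField R) ↔ _
  rw [(IsLocalRing.isField_iff_maximalIdeal_eq).1 (Field.toIsField _), Ideal.mem_bot]

omit [Algebra.Smooth R (cr G)] [IsAdicComplete (maximalIdeal R) R] [IsAlgClosed (ResidueField R)] [Smooth G.hom] in
/-- A function cutting out the unit component of the special fibre. -/
theorem exists_sep : ∃ a : cr G, ∀ g : specR (R := R) R ⟶ G,
    (red g ∈ NeronSplitP.unitPoints (sf G) → residue R (pa g a) = 1) ∧
    (red g ∉ NeronSplitP.unitPoints (sf G) → residue R (pa g a) = 0) := by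
  have : IsAffineHom (sf G).hom := MorphismProperty.pullback_snd (P := @IsAffineHom) G.hom _ ‹_›
  have : LocallyOfFiniteType (sf G).hom := MorphismProperty.pullback_snd (P := @LocallyOfFiniteType) G.hom _ ‹_›
  have : IsLocallyNoetherian (sf G).left := LocallyOfFiniteType.isLocallyNoetherian (sf G).hom
  have : IsAffine (sf G).left := isAffine_of_isAffineHom (sf G).hom
  have : IsNoetherian (sf G).left := { toCompactSpace := inferInstance, toIsLocallyNoetherian := inferInstance }
  have : IsClosedImmersion (Spec.map (CommRingCat.ofHom (residue R))) :=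
    IsClosedImmersion.spec_of_surjective _ residue_surjective
  let Θ := pullback.fst G.hom (Spec.map (CommRingCat.ofHom (residue R))) ≫ G.left.isoSpec.hom
  have hcl := Θ.isClosedEmbedding
  let C := connectedComponent (NeronSplitP.pt (sf G) 1)
  have hC : IsClosed (Θ '' C) := hcl.isClosedMap _ isClosed_connectedComponent
  have hD : IsClosed (Θ '' Cᶜ) := hcl.isClosedMap _ (NeronSplitP.isOpen_component (sf G) _).isClosed_compl
  have htop : PrimeSpectrum.vanishingIdeal (Θ '' C : Set (PrimeSpectrum (cr G))) ⊔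
      PrimeSpectrum.vanishingIdeal (Θ '' Cᶜ : Set (PrimeSpectrum (cr G))) = ⊤ := by
    rw [← PrimeSpectrum.zeroLocus_empty_iff_eq_top, PrimeSpectrum.zeroLocus_sup,
      PrimeSpectrum.zeroLocus_vanishingIdeal_eq_closure, PrimeSpectrum.zeroLocus_vanishingIdeal_eq_closure]
    erw [hC.closure_eq, hD.closure_eq]
    exact (Set.disjoint_image_of_injective hcl.injective disjoint_compl_right).inter_eq
  obtain ⟨i, hi, a, ha, hia⟩ := Submodule.mem_sup.1 (htop ▸ Submodule.mem_top : (1 : cr G) ∈ _)
  refine ⟨a, fun g => ⟨fun hg => ?_, fun hg => ?_⟩⟩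
  · have hmem : NeronSplitP.pt (sf G) (red g) ∈ C :=
      (show connectedComponent (NeronSplitP.pt (sf G) (red g)) = C from hg) ▸ mem_connectedComponent
    have := (mem_point_iff (red g) i).1 ((PrimeSpectrum.mem_vanishingIdeal _ _).1 hi _ ⟨_, hmem, rfl⟩)
    rw [pa_up_red] at this
    rw [show a = 1 - i from eq_sub_of_add_eq' hia, map_sub, map_sub, map_one, map_one, this, sub_zero]
  · have hmem : NeronSplitP.pt (sf G) (red g) ∈ Cᶜ := fun h => hg (connectedComponent_eq h).symm
    have := (mem_point_iff (red g) a).1 ((PrimeSpectrum.mem_vanishingIdeal _ _).1 ha _ ⟨_, hmem, rfl⟩)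
    rwa [pa_up_red] at this

omit [IsAffineHom G.hom] in
/-- A function with finitely many values on the unit component has one value there. -/
theorem const_on_comp [IsAffineHom G.hom] (b : cr G)
    (hfin : {c | ∃ g : specR (R := R) R ⟶ G, red g ∈ NeronSplitP.unitPoints (sf G) ∧ residue R (pa g b) = c}.Finite)
    (g : specR (R := R) R ⟶ G) (hg : red g ∈ NeronSplitP.unitPoints (sf G)) :
    residue R (pa g b) = residue R (pa 1 b) := by
  classical
  have : IsAffineHom (sf G).hom := MorphismProperty.pullback_snd (P := @IsAffineHom) G.hom _ ‹_›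
  have : LocallyOfFiniteType (sf G).hom := MorphismProperty.pullback_snd (P := @LocallyOfFiniteType) G.hom _ ‹_›
  have : Smooth (sf G).hom := MorphismProperty.pullback_snd (P := @Smooth) G.hom _ ‹_›
  have : IsLocallyNoetherian (sf G).left := LocallyOfFiniteType.isLocallyNoetherian (sf G).hom
  have : IsAffine (sf G).left := isAffine_of_isAffineHom (sf G).hom
  have : IsNoetherian (sf G).left := { toCompactSpace := inferInstance, toIsLocallyNoetherian := inferInstance }
  let Θ := pullback.fst G.hom (Spec.map (CommRingCat.ofHom (residue R))) ≫ G.left.isoSpec.hom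
  let C := connectedComponent (NeronSplitP.pt (sf G) 1)
  have hCo : IsOpen C := NeronSplitP.isOpen_component (sf G) _
  have hCirr : IsIrreducible C := by
    rw [show C = irreducibleComponent (GrpScheme.IdComponent.e₀ (sf G)) by
      rw [← GrpScheme.IdComponent.connectedComponent_eq]
      show connectedComponent (NeronSplitP.pt (sf G) 1) = _
      rw [NeronSplitP.one_eq]]
    exact isIrreducible_irreducibleComponent
  let c : ResidueField R → R := Function.surjInv residue_surjective
  let Z : ResidueField R → Set (sf G).left := fun v =>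
    Θ ⁻¹' PrimeSpectrum.zeroLocus {b - algebraMap R (cr G) (c v)}
  have hZc : ∀ v, IsClosed (Z v) := fun v => (PrimeSpectrum.isClosed_zeroLocus _).preimage Θ.continuous
  have hZ : ∀ x v, NeronSplitP.pt (sf G) x ∈ Z v ↔ pa (up x) b = v := fun x v => by
    show _ ∈ Set.preimage _ _ ↔ _
    rw [Set.mem_preimage]
    erw [PrimeSpectrum.mem_zeroLocus]
    rw [Set.singleton_subset_iff, SetLike.mem_coe]
    erw [mem_point_iff]
    rw [map_sub, AlgHom.commutes, sub_eq_zero]
    show _ = residue R (c v) ↔ _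
    rw [Function.surjInv_eq residue_surjective]
  let F := hfin.toFinset
  have hsub : C ⊆ ⋃₀ ↑(F.image Z) := by
    intro z hz
    by_contra hzn
    have hop : IsOpen (C ∩ (⋃₀ ↑(F.image Z))ᶜ) := hCo.inter
      (Set.sUnion_eq_biUnion ▸ (F.image Z).finite_toSet.isClosed_biUnion (fun s hs => by
        obtain ⟨v, -, rfl⟩ := Finset.mem_image.1 hs; exact hZc v)).isOpen_compl
    obtain ⟨x, hxC, hxn⟩ := NeronSplitP.exists_pt_mem (sf G) (Z := C ∩ (⋃₀ ↑(F.image Z))ᶜ) ⟨z, hz, hzn⟩ hop.isLocallyClosed
    obtain ⟨h, rfl⟩ := red_surjective x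
    refine hxn ⟨Z (pa (up (red h)) b), Finset.mem_coe.2 (Finset.mem_image.2 ⟨_, hfin.mem_toFinset.2
      ⟨h, (connectedComponent_eq hxC).symm, (pa_up_red h b).symm⟩, rfl⟩), (hZ _ _).2 rfl⟩
  obtain ⟨s, hs, hCs⟩ := isIrreducible_iff_sUnion_isClosed.1 hCirr (F.image Z) (fun s hs => by
    obtain ⟨v, -, rfl⟩ := Finset.mem_image.1 hs; exact hZc v) hsub
  obtain ⟨v, -, rfl⟩ := Finset.mem_image.1 hs
  have h1 := (hZ _ _).1 (hCs ((show connectedComponent (NeronSplitP.pt (sf G) (red g)) = C from hg) ▸ mem_connectedComponent))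
  have h2 := (hZ 1 _).1 (hCs mem_connectedComponent)
  rw [pa_up_red] at h1
  rw [← red_one, pa_up_red] at h2
  rw [h1, h2]

set_option maxHeartbeats 1000000 in
/-- The functions on the identity component are the polynomials in one coordinate. -/
theorem exists_identity (hT : U e xT = Polynomial.X) :
    ∃ (ϖ : R) (s : K) (φ : cr G →ₐ[R] Polynomial R) (a : cr G) (Y : Polynomial R), Irreducible ϖ ∧ s ≠ 0 ∧
      (∀ b, pa xT b = Polynomial.aeval (R := K) (Polynomial.C s * Polynomial.X) ((φ b).map (algebraMap R K))) ∧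
      1 - φ a = Polynomial.C ϖ * Y ∧
      (∀ P, ∃ (n : ℕ) (b : cr G), φ b = φ a ^ n * P) ∧
      (∀ P, ∃ (n : ℕ) (b : cr G), φ b = Polynomial.C ϖ ^ n * P) := by
  classical
  obtain ⟨ϖ, hϖ⟩ := IsDiscreteValuationRing.exists_irreducible R
  obtain ⟨a, ha⟩ := exists_sep (G := G)
  have hp : algebraMap R K ϖ ≠ 0 := fun h => hϖ.ne_zero (IsFractionRing.injective R K (h.trans (map_zero _).symm))
  have hpi : algebraMap R (Polynomial K) ϖ = Polynomial.C (algebraMap R K ϖ) := rfl
  have hpL : algebraMap R (Polynomial K) ϖ ≠ 0 := by rw [hpi]; exact Polynomial.C_ne_zero.2 hp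
  have hres : ∀ r : R, residue R r = 0 ↔ ϖ ∣ r := fun r => by
    rw [residue_eq_zero_iff, hϖ.maximalIdeal_eq, Ideal.mem_span_singleton]
  have hdiv : ∀ f : cr G, (∀ g : specR (R := R) R ⟶ G, residue R (pa g f) = 0) → ∃ w, f = algebraMap R (cr G) ϖ * w := by
    intro f hf
    have h2 := mem_of_residue f fun φ => by
      obtain ⟨ψ, hψ⟩ := Algebra.FormallySmooth.exists_mkₐ_comp_eq_of_isAdicComplete (I := maximalIdeal R) (S := R)
        (A := cr G) (R := R) φ
      rw [← hψ, ← pa_pp ψ]
      exact hf _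
    rw [hϖ.maximalIdeal_eq, Ideal.map_span, Set.image_singleton, Ideal.mem_span_singleton] at h2
    exact h2
  obtain ⟨w, hw⟩ := hdiv (a * (1 - a)) fun g => by
    by_cases hg : red g ∈ NeronSplitP.unitPoints (sf G)
    · simp [(ha g).1 hg]
    · simp [(ha g).2 hg]
  let y : Polynomial K := Polynomial.C (algebraMap R K ϖ)⁻¹ * pa xT (1 - a)
  have hy : algebraMap R (Polynomial K) ϖ * y = pa xT (1 - a) := by
    rw [hpi, ← _root_.mul_assoc, ← map_mul, mul_inv_cancel₀ hp, map_one, _root_.one_mul]
  let S : Subalgebra R (Polynomial K) := Algebra.adjoin R (insert y (Set.range (pa xT)))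
  have hyS : y ∈ S := Algebra.subset_adjoin (Set.mem_insert _ _)
  have hAS : ∀ b, pa xT b ∈ S := fun b => Algebra.subset_adjoin (Set.mem_insert_of_mem _ ⟨b, rfl⟩)
  have hA : ∀ f ∈ S, ∃ (n : ℕ) (b : cr G), pa xT b = pa xT a ^ n * f := by
    intro f hf
    induction hf using Algebra.adjoin_induction with
    | mem f hf =>
      rcases hf with rfl | ⟨b, rfl⟩
      · refine ⟨1, w, mul_left_cancel₀ hpL ?_⟩
        rw [pow_one, mul_left_comm, hy, ← map_mul, hw, map_mul, AlgHom.commutes]
      · exact ⟨0, b, by rw [pow_zero, _root_.one_mul]⟩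
    | algebraMap r => exact ⟨0, algebraMap R _ r, by rw [pow_zero, _root_.one_mul, AlgHom.commutes]⟩
    | add f f' _ _ hf hf' =>
      obtain ⟨n, b, hb⟩ := hf
      obtain ⟨m, b', hb'⟩ := hf'
      exact ⟨n + m, a ^ m * b + a ^ n * b', by rw [map_add, map_mul, map_mul, map_pow, map_pow, hb, hb', pow_add]; ring⟩
    | mul f f' _ _ hf hf' =>
      obtain ⟨n, b, hb⟩ := hf
      obtain ⟨m, b', hb'⟩ := hf'
      exact ⟨n + m, b * b', by rw [map_mul, hb, hb', pow_add]; ring⟩
  let W : (specR (R := R) R ⟶ G) → Prop := fun g => red g ∈ NeronSplitP.unitPoints (sf G)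
  let u : (specR (R := R) R ⟶ G) → K := fun g => U e (B := K) (pK K g)
  have hint : ∀ g, W g → ∀ f ∈ S, ∃ r : R, algebraMap R K r = f.eval (u g) := by
    intro g hg f hf
    induction hf using Algebra.adjoin_induction with
    | mem f hf =>
      rcases hf with rfl | ⟨b, rfl⟩
      · obtain ⟨r, hr⟩ := (hres _).1 (show residue R (pa g (1 - a)) = 0 by simp [(ha g).1 hg])
        refine ⟨r, ?_⟩
        rw [Polynomial.eval_mul, Polynomial.eval_C, ← pa_eval e hT, hr, map_mul, inv_mul_cancel_left₀ hp]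
      · exact ⟨pa g b, pa_eval e hT g b⟩
    | algebraMap r => exact ⟨r, by rw [IsScalarTower.algebraMap_apply R K (Polynomial K)]; exact (Polynomial.eval_C).symm⟩
    | add f f' _ _ hf hf' =>
      obtain ⟨r, hr⟩ := hf
      obtain ⟨r', hr'⟩ := hf'
      exact ⟨r + r', by rw [map_add, hr, hr', Polynomial.eval_add]⟩
    | mul f f' _ _ hf hf' =>
      obtain ⟨r, hr⟩ := hf
      obtain ⟨r', hr'⟩ := hf'
      exact ⟨r * r', by rw [map_mul, hr, hr', Polynomial.eval_mul]⟩
  have hW1 : W 1 := by show red 1 ∈ _; rw [red_one]; exact one_mem _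
  have hvan : ∀ f ∈ S, (∀ g, W g → ∀ r : R, algebraMap R K r = f.eval (u g) → residue R r = 0) →
      ∃ f' ∈ S, f = algebraMap R (Polynomial K) ϖ * f' := by
    intro f hf h0
    obtain ⟨n, b, hb⟩ := hA f hf
    obtain ⟨c, hc⟩ := hdiv (a * b) fun g => by
      by_cases hg : W g
      · obtain ⟨r, hr⟩ := hint g hg f hf
        have h1 : pa g b = pa g a ^ n * r := IsFractionRing.injective R K (by
          rw [map_mul, map_pow, hr, pa_eval e hT, pa_eval e hT, hb, Polynomial.eval_mul, Polynomial.eval_pow])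
        simp [h1, h0 g hg r hr]
      · simp [(ha g).2 hg]
    refine ⟨pa xT c + y * (∑ i ∈ Finset.range (n + 1), pa xT a ^ i) * f,
      S.add_mem (hAS c) (S.mul_mem (S.mul_mem hyS (S.sum_mem fun i _ => S.pow_mem (hAS a) i)) hf), ?_⟩
    have h1 := congrArg (pa xT) hc
    rw [map_mul, map_mul, AlgHom.commutes, hb] at h1
    have h2 := geom_sum_mul (pa xT a) (n + 1)
    rw [map_sub, map_one] at hy
    linear_combination h1 + h2 * f + (-(∑ i ∈ Finset.range (n + 1), pa xT a ^ i) * f) * hy
  have hfg : S.FG := by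
    obtain ⟨T, hTg⟩ := Algebra.FiniteType.out (R := R) (A := cr G)
    refine ⟨insert y (T.image (pa xT)), ?_⟩
    rw [Finset.coe_insert, Finset.coe_image]
    refine le_antisymm (Algebra.adjoin_mono (Set.insert_subset_insert (Set.image_subset_range _ _))) (Algebra.adjoin_le ?_)
    rintro z (rfl | ⟨b, rfl⟩)
    · exact Algebra.subset_adjoin (Set.mem_insert _ _)
    · refine Algebra.adjoin_mono (Set.subset_insert _ _) ?_
      rw [Algebra.adjoin_image, hTg]
      exact ⟨b, trivial, rfl⟩
  have : Algebra.FiniteType R S := (Subalgebra.fg_iff_finiteType _).1 hfg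
  have : IsNoetherianRing S := Algebra.FiniteType.isNoetherianRing R S
  obtain ⟨N, b₀, hb₀⟩ := exists_clear e hϖ hT Polynomial.X
  have hne : (⟨pa xT b₀, hAS b₀⟩ : S) ≠ 0 := fun h => by
    have h' := congrArg Subtype.val h
    simp only [ZeroMemClass.coe_zero] at h'
    rw [hb₀, IsScalarTower.algebraMap_apply R K (Polynomial K)] at h'
    rcases mul_eq_zero.1 h' with h'' | h''
    · exact pow_ne_zero N hp (by
        have := (algebraMap K (Polynomial K)).injective (h''.trans (map_zero _).symm)
        rwa [map_pow] at this)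
    · exact Polynomial.X_ne_zero h''
  have hnu : ¬ IsUnit (algebraMap R S ϖ) := fun hu => by
    obtain ⟨z, hz⟩ := isUnit_iff_exists_inv.1 hu
    obtain ⟨r, hr⟩ := hint 1 hW1 z.1 z.2
    refine hϖ.not_isUnit (IsUnit.of_mul_eq_one r (IsFractionRing.injective R K ?_))
    rw [map_mul, hr, map_one, ← Polynomial.eval_one (x := u 1), ← show algebraMap R (Polynomial K) ϖ * z.1 = 1 from
      congrArg Subtype.val hz, Polynomial.eval_mul, hpi, Polynomial.eval_C]
  obtain ⟨n, ⟨t, htS⟩, htn, hb₁⟩ := WfDvdMonoid.max_power_factor' hne hnu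
  let s : K := algebraMap R K ϖ ^ N / algebraMap R K ϖ ^ n
  have hs : s ≠ 0 := div_ne_zero (pow_ne_zero _ hp) (pow_ne_zero _ hp)
  have ht : t = Polynomial.C s * Polynomial.X := by
    have h1 : pa xT b₀ = algebraMap R (Polynomial K) ϖ ^ n * t := congrArg Subtype.val hb₁
    rw [hb₀, map_pow, hpi] at h1
    refine mul_left_cancel₀ (pow_ne_zero n (Polynomial.C_ne_zero.2 hp)) (h1.symm.trans ?_)
    rw [← _root_.mul_assoc, ← map_pow Polynomial.C, ← map_pow Polynomial.C, ← map_mul,
      mul_div_cancel₀ _ (pow_ne_zero _ hp)]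
  subst ht
  have hinf : {c | ∃ g, W g ∧ ∃ r : R, algebraMap R K r = s * u g ∧ residue R r = c}.Infinite := by
    intro hfin
    obtain ⟨m, b, hb⟩ := hA _ htS
    have hval : ∀ g, W g → ∀ r : R, algebraMap R K r = s * u g → residue R (pa g b) = residue R r := fun g hg r hr => by
      have h1 : pa g b = pa g a ^ m * r := IsFractionRing.injective R K (by
        rw [map_mul, map_pow, hr, pa_eval e hT, pa_eval e hT, hb, Polynomial.eval_mul, Polynomial.eval_pow,
          Polynomial.eval_mul, Polynomial.eval_C, Polynomial.eval_X])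
      rw [h1, map_mul, map_pow, (ha g).1 hg, one_pow, _root_.one_mul]
    have hr' : ∀ g, W g → ∃ r : R, algebraMap R K r = s * u g := fun g hg => by
      obtain ⟨r, hr⟩ := hint g hg _ htS
      exact ⟨r, by rw [hr, Polynomial.eval_mul, Polynomial.eval_C, Polynomial.eval_X]⟩
    have hc := const_on_comp (G := G) b (hfin.subset (by
      rintro _ ⟨g, hg, rfl⟩
      obtain ⟨r, hr⟩ := hr' g hg
      exact ⟨g, hg, r, hr, (hval g hg r hr).symm⟩))
    have hu1 : u 1 = 0 := by
      have h := congrArg (U e (B := K)) (_root_.one_mul (pK K (1 : specR (R := R) R ⟶ G)))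
      have h2 := congrArg (U e (B := K)) (pK_mul (K := K) (1 : specR (R := R) R ⟶ G) 1)
      rw [U_mul, _root_.one_mul] at h2
      exact left_eq_add.1 h2
    obtain ⟨f', hf', hff⟩ := hvan _ htS fun g hg r hr => by
      rw [Polynomial.eval_mul, Polynomial.eval_C, Polynomial.eval_X] at hr
      rw [← hval g hg r hr, hc g hg, hval 1 hW1 0 (by rw [map_zero, hu1, mul_zero]), map_zero]
    exact htn ⟨⟨f', hf'⟩, Subtype.ext hff⟩
  let Ψ : Polynomial R →ₐ[R] S := Polynomial.aeval (⟨_, htS⟩ : S)
  have hΨ : ∀ P : Polynomial R, (Ψ P : Polynomial K) =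
      Polynomial.aeval (R := K) (Polynomial.C s * Polynomial.X) (P.map (algebraMap R K)) := fun P => by
    rw [Polynomial.aeval_map_algebraMap]
    exact (Polynomial.aeval_algHom_apply S.val (⟨_, htS⟩ : S) P).symm
  have hinv : ∀ Q : Polynomial K, Polynomial.aeval (R := K) (Polynomial.C s⁻¹ * Polynomial.X)
      (Polynomial.aeval (R := K) (Polynomial.C s * Polynomial.X) Q) = Q := fun Q => by
    rw [← Polynomial.aeval_algHom_apply, map_mul, Polynomial.aeval_C, Polynomial.aeval_X,
      show algebraMap K (Polynomial K) s = Polynomial.C s from rfl, ← _root_.mul_assoc, ← map_mul,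
      mul_inv_cancel₀ hs, map_one, _root_.one_mul, Polynomial.aeval_X_left_apply]
  have hΨi : Function.Injective Ψ := fun P Q h => by
    have h2 := congrArg (Polynomial.aeval (R := K) (Polynomial.C s⁻¹ * Polynomial.X))
      ((hΨ P).symm.trans ((congrArg Subtype.val h).trans (hΨ Q)))
    rw [hinv, hinv] at h2
    exact Polynomial.map_injective _ (IsFractionRing.injective R K) h2
  have hden : ∀ f : Polynomial K, ∃ (N : ℕ) (P : Polynomial R),
      (Ψ P : Polynomial K) = algebraMap R (Polynomial K) (ϖ ^ N) * f := by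
    intro f
    induction f using Polynomial.induction_on' with
    | add f f' hf hf' =>
      obtain ⟨N, g, hg⟩ := hf
      obtain ⟨N', g', hg'⟩ := hf'
      refine ⟨N + N', algebraMap R _ (ϖ ^ N') * g + algebraMap R _ (ϖ ^ N) * g', ?_⟩
      rw [map_add, map_mul, map_mul, AlgHom.commutes, AlgHom.commutes, Subalgebra.coe_add, Subalgebra.coe_mul,
        Subalgebra.coe_mul, hg, hg', Subalgebra.coe_algebraMap, Subalgebra.coe_algebraMap, pow_add, map_mul]
      ring
    | monomial n c =>
      obtain ⟨b, d, hd, hbd⟩ := IsFractionRing.div_surjective R (c / s ^ n)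
      obtain ⟨N, v, rfl⟩ := IsDiscreteValuationRing.eq_unit_mul_pow_irreducible (nonZeroDivisors.ne_zero hd) hϖ
      refine ⟨N, Polynomial.C (b * (v⁻¹ : Rˣ)) * Polynomial.X ^ n, ?_⟩
      rw [hΨ, Polynomial.map_mul, Polynomial.map_pow, Polynomial.map_C, Polynomial.map_X, map_mul, map_pow,
        Polynomial.aeval_C, Polynomial.aeval_X, IsScalarTower.algebraMap_apply R K (Polynomial K),
        ← Polynomial.C_mul_X_pow_eq_monomial, mul_pow, ← map_pow Polynomial.C, ← _root_.mul_assoc, ← _root_.mul_assoc]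
      show Polynomial.C _ * Polynomial.C _ * _ = Polynomial.C _ * Polynomial.C _ * _
      rw [← map_mul, ← map_mul]
      congr 2
      have hv : algebraMap R K (v : R) ≠ 0 := (v.isUnit.map (algebraMap R K)).ne_zero
      simp only [map_mul, map_pow, map_units_inv] at hbd ⊢
      field_simp at hbd ⊢
      linear_combination hbd
  have hΨs : Function.Surjective Ψ := by
    rintro ⟨f, hf⟩
    obtain ⟨M, P, hP⟩ := hden f
    induction M generalizing P with
    | zero => exact ⟨P, Subtype.ext (by rw [hP, pow_zero, map_one, _root_.one_mul])⟩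
    | succ M ih =>
      have hP0 : P.map (residue R) = 0 := Polynomial.eq_zero_of_infinite_isRoot _ (hinf.mono (by
        rintro _ ⟨g, hg, r, hr, rfl⟩
        obtain ⟨r', hr'⟩ := hint g hg f hf
        have h1 : P.eval r = ϖ ^ (M + 1) * r' := IsFractionRing.injective R K (by
          have h2 := congrArg (Polynomial.eval (u g)) hP
          rw [hΨ, Polynomial.eval_mul, IsScalarTower.algebraMap_apply R K (Polynomial K),
            show algebraMap K (Polynomial K) (algebraMap R K (ϖ ^ (M + 1))) = Polynomial.C _ from rfl,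
            Polynomial.eval_C, ← hr', ← map_mul, ← Polynomial.comp_eq_aeval, Polynomial.eval_comp, Polynomial.eval_mul,
            Polynomial.eval_C, Polynomial.eval_X, ← hr, Polynomial.eval_map, Polynomial.eval₂_at_apply] at h2
          exact h2)
        show (P.map (residue R)).eval (residue R r) = 0
        rw [Polynomial.eval_map, Polynomial.eval₂_at_apply, hres, h1]
        exact (dvd_pow_self ϖ M.succ_ne_zero).mul_right _))
      obtain ⟨P', rfl⟩ : Polynomial.C ϖ ∣ P := by
        rw [Polynomial.C_dvd_iff_dvd_coeff]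
        intro i
        have := congrArg (fun Q : Polynomial (ResidueField R) => Q.coeff i) hP0
        rwa [Polynomial.coeff_map, Polynomial.coeff_zero, hres] at this
      refine ih P' (mul_left_cancel₀ hpL ?_)
      rw [map_mul, Subalgebra.coe_mul, Polynomial.aeval_C, Subalgebra.coe_algebraMap, pow_succ', map_mul] at hP
      rw [hP]
      ring
  let eqv := AlgEquiv.ofBijective Ψ ⟨hΨi, hΨs⟩
  let incA : cr G →ₐ[R] S := AlgHom.codRestrict (pa xT) S hAS
  let φ : cr G →ₐ[R] Polynomial R := eqv.symm.toAlgHom.comp incA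
  have hφ : ∀ b, (Ψ (φ b) : Polynomial K) = pa xT b := fun b => congrArg Subtype.val (eqv.apply_symm_apply (incA b))
  obtain ⟨Y, hY⟩ := hΨs ⟨y, hyS⟩
  refine ⟨ϖ, s, φ, a, Y, hϖ, hs, fun b => (hφ b).symm.trans (hΨ _), hΨi (Subtype.ext ?_), fun P => ?_, fun P => ?_⟩
  · rw [map_sub, map_one, map_mul, hY, Polynomial.aeval_C, Subalgebra.coe_sub, Subalgebra.coe_one, hφ,
      Subalgebra.coe_mul, Subalgebra.coe_algebraMap, hy, map_sub, map_one]
  · obtain ⟨n, b, hb⟩ := hA _ (Ψ P).2
    refine ⟨n, b, hΨi (Subtype.ext ?_)⟩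
    rw [hφ, map_mul, map_pow, Subalgebra.coe_mul, Subalgebra.coe_pow, hφ, hb]
  · obtain ⟨n, b, hb⟩ := exists_clear e hϖ hT (Ψ P : Polynomial K)
    refine ⟨n, b, hΨi (Subtype.ext ?_)⟩
    rw [hφ, map_mul, map_pow, Polynomial.aeval_C, Subalgebra.coe_mul, Subalgebra.coe_pow, Subalgebra.coe_algebraMap,
      hb, map_pow]

omit [IsAdicComplete (maximalIdeal R) R] [IsAlgClosed (ResidueField R)] [IsAffineHom G.hom] [LocallyOfFiniteType G.hom]
  [Smooth G.hom] in
/-- The identity component is the additive group. -/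
theorem exists_openImmersion (hT : U e xT = Polynomial.X) {ϖ : R} {s : K} {φ : cr G →ₐ[R] Polynomial R} {a : cr G}
    {Y : Polynomial R} (hs : s ≠ 0)
    (hφ : ∀ b, pa xT b = Polynomial.aeval (R := K) (Polynomial.C s * Polynomial.X) ((φ b).map (algebraMap R K)))
    (hY : 1 - φ a = Polynomial.C ϖ * Y)
    (ha : ∀ P, ∃ (n : ℕ) (b : cr G), φ b = φ a ^ n * P)
    (hw : ∀ P, ∃ (n : ℕ) (b : cr G), φ b = Polynomial.C ϖ ^ n * P) :
    ∃ j : Red.Ga (Spec (CommRingCat.of R)) ⟶ G, IsMonHom j ∧ IsOpenImmersion j.left := by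
  have hinj : Function.Injective φ := fun b b' h => pa_xT_injective e hT (by rw [hφ, hφ, h])
  let Ga := Red.Ga (Spec (CommRingCat.of R))
  haveI : IsAffine (RedPts.specA RedPts.symA.{u}).left := inferInstanceAs (IsAffine (Spec _))
  haveI : IsAffine Ga.left := inferInstanceAs (IsAffine (pullback (RedPts.specA RedPts.symA.{u}).hom (RedPts.toZ _)))
  -- the additive group is the spectrum of the polynomial ring
  obtain ⟨o, ho⟩ := RedPts.ga_surjective (S := Spec (CommRingCat.of R)) (X := specR (R := R) (Polynomial R))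
    ((Scheme.ΓSpecIso (CommRingCat.of (Polynomial R))).inv Polynomial.X)
  let sA : specR (R := R) (cr Ga) ⟶ Ga := pp (AlgHom.id R _)
  have : IsIso sA.left := by
    show IsIso (Spec.map (CommRingCat.ofHom (RingHom.id (cr Ga))) ≫ Ga.left.isoSpec.inv)
    rw [CommRingCat.ofHom_id, Spec.map_id, Category.id_comp]
    infer_instance
  haveI : IsIso sA := by
    have : IsIso ((Over.forget _).map sA) := ‹IsIso sA.left›
    exact isIso_of_reflects_iso sA (Over.forget _)
  let o' : Ga ⟶ specR (R := R) (Polynomial R) :=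
    CategoryTheory.inv sA ≫ spR (Polynomial.aeval (Red.gaFn (𝟙 Ga) : cr Ga))
  have hsA : ∀ b, pa sA b = b := fun b => AlgHom.congr_fun (pa_pp (AlgHom.id R (cr Ga))) b
  have ho' : o' ≫ o = 𝟙 Ga := by
    rw [← cancel_epi sA]
    apply RedPts.ga_injective
    rw [← Category.assoc, show sA ≫ o' = spR (Polynomial.aeval (Red.gaFn (𝟙 Ga) : cr Ga)) by
      rw [← Category.assoc, IsIso.hom_inv_id, Category.id_comp], RedPts.ga_comp, ho, RedPts.ga_comp]
    apply (Scheme.ΓSpecIso (CommRingCat.of (cr Ga))).commRingCatIsoToRingEquiv.injective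
    refine (congr($(Scheme.ΓSpecIso_naturality (CommRingCat.ofHom
      (Polynomial.aeval (R := R) (Red.gaFn (𝟙 Ga) : cr Ga)).toRingHom)) _)).trans ?_
    show Polynomial.aeval (R := R) (Red.gaFn (𝟙 Ga) : cr Ga)
      ((Scheme.ΓSpecIso (CommRingCat.of (Polynomial R))).hom ((Scheme.ΓSpecIso (CommRingCat.of (Polynomial R))).inv Polynomial.X)) = _
    rw [Iso.inv_hom_id_apply, Polynomial.aeval_X]
    exact (hsA _).symm
  let j : Ga ⟶ G := o' ≫ pp φ
  have key : ∀ {B : Type u} [CommRing B] [Algebra R B] (z : specR (R := R) B ⟶ Ga), pa (z ≫ j) =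
      (Polynomial.aeval (R := R) ((Scheme.ΓSpecIso (CommRingCat.of B)).hom (Red.gaFn z))).comp φ := by
    intro B _ _ z
    obtain ⟨ζ, hζ⟩ : ∃ ζ : Polynomial R →ₐ[R] B, z ≫ o' = spR ζ := by
      haveI : IsAffine (specR (R := R) (Polynomial R)).left := inferInstanceAs (IsAffine (Spec _))
      refine ⟨(pa (z ≫ o')).comp
        { toRingHom := (Scheme.ΓSpecIso (CommRingCat.of (Polynomial R))).inv.hom
          commutes' := fun r => congr($(Scheme.ΓSpecIso_inv_naturality (CommRingCat.ofHom (algebraMap R (Polynomial R)))) r) }, ?_⟩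
      apply pa_injective
      ext b
      rw [pa_apply, pa_apply]
      show _ = (Scheme.ΓSpecIso (CommRingCat.of B)).hom ((Spec.map _).appTop b)
      refine Eq.trans ?_ (congr($(Scheme.ΓSpecIso_naturality _) b)).symm
      show _ = (pa (z ≫ o')) ((Scheme.ΓSpecIso (CommRingCat.of (Polynomial R))).inv
        ((Scheme.ΓSpecIso (CommRingCat.of (Polynomial R))).hom b))
      rw [Iso.hom_inv_id_apply]
      rfl
    have hz : ζ Polynomial.X = (Scheme.ΓSpecIso (CommRingCat.of B)).hom (Red.gaFn z) := by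
      conv_rhs => rw [← Category.comp_id z, ← ho', ← Category.assoc, hζ, RedPts.ga_comp, ho]
      refine Eq.symm ((congr($(Scheme.ΓSpecIso_naturality (CommRingCat.ofHom ζ.toRingHom)) _)).trans ?_)
      show ζ ((Scheme.ΓSpecIso (CommRingCat.of (Polynomial R))).hom
        ((Scheme.ΓSpecIso (CommRingCat.of (Polynomial R))).inv Polynomial.X)) = _
      rw [Iso.inv_hom_id_apply]
    rw [← hz]
    have h2 : Polynomial.aeval (ζ Polynomial.X) = ζ := Polynomial.algHom_ext (Polynomial.aeval_X _)
    rw [h2, show z ≫ j = spR ζ ≫ pp φ by rw [← hζ, Category.assoc], pa_comp, pa_pp]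
  have hU : ∀ {B : Type u} [CommRing B] [Algebra R B] (z : specR (R := R) (K ⊗[R] B) ⟶ Ga),
      U e (B := K ⊗[R] B) (z ≫ j) = algebraMap K (K ⊗[R] B) s⁻¹ *
        (Scheme.ΓSpecIso (CommRingCat.of (K ⊗[R] B))).hom (Red.gaFn z) := by
    intro B _ _ z
    set τ : K ⊗[R] B := (Scheme.ΓSpecIso (CommRingCat.of (K ⊗[R] B))).hom (Red.gaFn z)
    let q : Polynomial K →ₐ[K] K ⊗[R] B := Polynomial.aeval (algebraMap K (K ⊗[R] B) s⁻¹ * τ)
    have h1 : z ≫ j = spR (q.restrictScalars R) ≫ xT := pa_injective (AlgHom.ext fun b => by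
      rw [key, pa_comp]
      show Polynomial.aeval τ (φ b) = q (pa xT b)
      rw [hφ, ← Polynomial.aeval_algHom_apply, Polynomial.aeval_map_algebraMap, map_mul,
        show q (Polynomial.C s) = algebraMap K _ s from q.commutes s, Polynomial.aeval_X, ← _root_.mul_assoc, ← map_mul,
        mul_inv_cancel₀ hs, map_one, _root_.one_mul])
    rw [h1, U_comp, hT, Polynomial.aeval_X]
  refine ⟨j, ?_, ?_⟩
  · have hmulGa : ∀ {B : Type u} [CommRing B] [Algebra R B] [Module.Flat R B] (x y : specR (R := R) B ⟶ Ga),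
        (x * y) ≫ j = (x ≫ j) * (y ≫ j) := by
      intro B _ _ _ x y
      let inc : B →ₐ[R] K ⊗[R] B := Algebra.TensorProduct.includeRight
      have hi : Function.Injective inc := Algebra.TensorProduct.includeRight_injective (IsFractionRing.injective R K)
      refine pa_injective (AlgHom.ext fun b => hi ?_)
      have h1 : spR inc ≫ ((x * y) ≫ j) = spR inc ≫ ((x ≫ j) * (y ≫ j)) := by
        refine U_injective e (B := K ⊗[R] B) ?_
        have hj : ∀ q : specR (R := R) B ⟶ Ga, spR inc ≫ (q ≫ j) = (spR inc ≫ q) ≫ j := fun q => (Category.assoc _ _ _).symm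
        rw [MonObj.comp_mul, U_mul, hj, hj, hj, hU, hU, hU, MonObj.comp_mul, RedPts.ga_mul, map_add, mul_add]
      have h2 := congrArg (fun q => pa q b) h1
      simpa [pa_comp] using h2
    have hm : μ[Ga] ≫ j = (j ⊗ₘ j) ≫ μ[G] := by
      have : Smooth Ga.hom := by
        have : Smooth (RedPts.specA RedPts.symA.{u}).hom := by
          show Smooth (Spec.map (CommRingCat.ofHom (algebraMap RedPts.Zu.{u} RedPts.symA.{u})))
          rw [HasRingHomProperty.Spec_iff (P := @Smooth)]
          show RingHom.Smooth (algebraMap RedPts.Zu.{u} RedPts.symA.{u})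
          rw [RingHom.smooth_algebraMap]
          have : Algebra.Smooth RedPts.Zu.{u} (Polynomial RedPts.Zu.{u}) := { }
          exact Algebra.Smooth.of_equiv (A := Polynomial RedPts.Zu.{u})
            (SymmetricAlgebra.equivMvPolynomial (Module.Basis.singleton PUnit.{u+1} RedPts.Zu.{u}) |>.trans
              (MvPolynomial.pUnitAlgEquiv _)).symm
        exact MorphismProperty.pullback_snd (P := @Smooth) _ _ this
      have : Smooth (Ga ⊗ Ga).hom := by
        show Smooth (pullback.fst Ga.hom Ga.hom ≫ Ga.hom)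
        exact MorphismProperty.comp_mem @Smooth _ _ (MorphismProperty.pullback_fst (P := @Smooth) _ _ ‹_›) ‹_›
      have : IsAffine (Ga ⊗ Ga).left := inferInstanceAs (IsAffine (pullback Ga.hom Ga.hom))
      have := smooth_cr (Ga ⊗ Ga)
      let sGG : specR (R := R) (cr (Ga ⊗ Ga)) ⟶ Ga ⊗ Ga := pp (AlgHom.id R _)
      have : IsIso sGG.left := by
        show IsIso (Spec.map (CommRingCat.ofHom (RingHom.id (cr (Ga ⊗ Ga)))) ≫ (Ga ⊗ Ga).left.isoSpec.inv)
        rw [CommRingCat.ofHom_id, Spec.map_id, Category.id_comp]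
        infer_instance
      haveI : IsIso sGG := by
        have : IsIso ((Over.forget _).map sGG) := ‹IsIso sGG.left›
        exact isIso_of_reflects_iso sGG (Over.forget _)
      rw [← cancel_epi sGG]
      have h := hmulGa (sGG ≫ fst Ga Ga) (sGG ≫ snd Ga Ga)
      rw [Hom.mul_def, Hom.mul_def, Category.assoc (lift _ _), ← comp_lift, lift_fst_snd, Category.comp_id,
        Category.assoc, Category.assoc, ← comp_lift, ← tensorHom_fst j j, ← tensorHom_snd j j, ← comp_lift,
        lift_fst_snd, Category.comp_id, Category.assoc] at h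
      exact h
    refine ⟨?_, hm⟩
    have h1 : (η[Ga] ≫ j) * (η[Ga] ≫ j) = η[Ga] ≫ j := by
      rw [Hom.mul_def, show lift (η[Ga] ≫ j) (η[Ga] ≫ j) = lift η[Ga] η[Ga] ≫ (j ⊗ₘ j) by simp, Category.assoc, ← hm,
        ← Category.assoc, ← Hom.mul_def, show (η[Ga] : 𝟙_ _ ⟶ Ga) = 1 by rw [Hom.one_def, toUnit_unique (toUnit _) (𝟙 _), Category.id_comp]]
      exact congrArg (fun q : 𝟙_ _ ⟶ Ga => q ≫ j) (_root_.one_mul (1 : 𝟙_ (Over (Spec (CommRingCat.of R))) ⟶ Ga))
    rw [mul_eq_left.1 h1, Hom.one_def, toUnit_unique (toUnit _) (𝟙 _), Category.id_comp]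
  · have : IsIso o' := by
      have hinvo : o ≫ o' = 𝟙 _ := by
        haveI : IsAffine (specR (R := R) (Polynomial R)).left := inferInstanceAs (IsAffine (Spec _))
        rw [show o' = CategoryTheory.inv sA ≫ spR (Polynomial.aeval (Red.gaFn (𝟙 Ga) : cr Ga)) from rfl]
        apply pa_injective
        rw [show o ≫ CategoryTheory.inv sA ≫ spR (Polynomial.aeval (Red.gaFn (𝟙 Ga) : cr Ga)) =
          spR (pa o) ≫ spR (Polynomial.aeval (Red.gaFn (𝟙 Ga) : cr Ga)) by
            rw [← Category.assoc, show o ≫ CategoryTheory.inv sA = spR (pa o) by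
              rw [IsIso.comp_inv_eq]
              exact pa_injective (AlgHom.ext fun b => by rw [pa_comp]; show pa o b = pa o (pa sA b); rw [hsA])]]
        rw [pa_comp, ← Category.id_comp (spR (Polynomial.aeval (Red.gaFn (𝟙 Ga) : cr Ga)))]
        refine AlgHom.ext fun b => ?_
        show pa o (pa (𝟙 _ ≫ spR (Polynomial.aeval (Red.gaFn (𝟙 Ga) : cr Ga))) b) = pa (𝟙 _) b
        rw [Category.id_comp]
        obtain ⟨P, rfl⟩ : ∃ P, (Scheme.ΓSpecIso (CommRingCat.of (Polynomial R))).inv P = b :=
          ⟨_, (Scheme.ΓSpecIso (CommRingCat.of (Polynomial R))).hom_inv_id_apply b⟩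
        have h3 : pa (spR (Polynomial.aeval (Red.gaFn (𝟙 Ga) : cr Ga))) ((Scheme.ΓSpecIso (CommRingCat.of (Polynomial R))).inv P) =
            Polynomial.aeval (Red.gaFn (𝟙 Ga) : cr Ga) P := by
          refine (congr($(Scheme.ΓSpecIso_naturality (CommRingCat.ofHom
            (Polynomial.aeval (R := R) (Red.gaFn (𝟙 Ga) : cr Ga)).toRingHom)) _)).trans ?_
          show Polynomial.aeval _ ((Scheme.ΓSpecIso (CommRingCat.of (Polynomial R))).hom _) = _
          rw [Iso.inv_hom_id_apply]
        rw [h3, ← Polynomial.aeval_algHom_apply]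
        have h4 : pa o (Red.gaFn (𝟙 Ga) : cr Ga) = Polynomial.X := by
          show (Scheme.ΓSpecIso _).hom (o.left.appTop (Red.gaFn (𝟙 Ga))) = _
          rw [← RedPts.ga_comp, Category.comp_id, ho, Iso.inv_hom_id_apply]
        rw [h4, Polynomial.aeval_X_left_apply]
        show P = (Scheme.ΓSpecIso _).hom ((𝟙 (Spec _) : Spec _ ⟶ _).appTop _)
        rw [Scheme.Hom.id_appTop]
        exact (Iso.inv_hom_id_apply _ _).symm
      exact ⟨o, ho', hinvo⟩
    have : IsIso o'.left := inferInstanceAs (IsIso ((Over.forget _).map o'))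
    show IsOpenImmersion (o'.left ≫ Spec.map (CommRingCat.ofHom φ.toRingHom) ≫ G.left.isoSpec.inv)
    suffices IsOpenImmersion (Spec.map (CommRingCat.ofHom φ.toRingHom)) by infer_instance
    have hloc : ∀ c : cr G, (∀ P, ∃ (n : ℕ) (b : cr G), φ b = φ c ^ n * P) →
        IsOpenImmersion (Spec.map (CommRingCat.ofHom (algebraMap (Polynomial R) (Localization.Away (φ c)))) ≫
          Spec.map (CommRingCat.ofHom φ.toRingHom)) := by
      intro c hc
      by_cases hz : φ c = 0
      · haveI : Subsingleton (Localization.Away (φ c)) :=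
          IsLocalization.subsingleton (M := Submonoid.powers (φ c)) ⟨1, by simp [hz]⟩
        haveI : IsEmpty (Spec (CommRingCat.of (Localization.Away (φ c)))) :=
          inferInstanceAs (IsEmpty (PrimeSpectrum (Localization.Away (φ c))))
        exact inferInstance
      rw [← Spec.map_comp, ← CommRingCat.ofHom_comp]
      letI : Algebra (cr G) (Localization.Away (φ c)) :=
        ((algebraMap (Polynomial R) (Localization.Away (φ c))).comp φ.toRingHom).toAlgebra
      have hli : Function.Injective (algebraMap (Polynomial R) (Localization.Away (φ c))) :=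
        IsLocalization.injective _ (powers_le_nonZeroDivisors_of_noZeroDivisors hz)
      haveI : IsLocalization.Away c (Localization.Away (φ c)) := (isLocalization_iff _ _).2 ⟨(by
          rintro ⟨_, n, rfl⟩
          show IsUnit (algebraMap (Polynomial R) (Localization.Away (φ c)) (φ (c ^ n)))
          rw [map_pow, map_pow]
          exact (IsLocalization.Away.algebraMap_isUnit (φ c)).pow n)
        , (fun z => by
          obtain ⟨⟨P, _, m, rfl⟩, hP⟩ := IsLocalization.surj (Submonoid.powers (φ c)) z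
          obtain ⟨n, b, hb⟩ := hc P
          refine ⟨⟨b, c ^ (n + m), ⟨n + m, rfl⟩⟩, ?_⟩
          show z * algebraMap (Polynomial R) (Localization.Away (φ c)) (φ (c ^ (n + m))) =
            algebraMap (Polynomial R) (Localization.Away (φ c)) (φ b)
          rw [hb, map_mul, map_pow φ, pow_add, map_mul, ← hP]
          ring)
        , (fun {x y} hxy => ⟨1, by rw [OneMemClass.coe_one, _root_.one_mul, _root_.one_mul]; exact hinj (hli hxy)⟩)⟩
      exact IsOpenImmersion.of_isLocalization c
    have hC : φ (algebraMap R (cr G) ϖ) = Polynomial.C ϖ := φ.commutes ϖ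
    have hwc : ∀ P, ∃ (n : ℕ) (b : cr G), φ b = φ (algebraMap R (cr G) ϖ) ^ n * P := by rw [hC]; exact hw
    have hcov : ∀ P : PrimeSpectrum (Polynomial R), ∃ c : cr G,
        φ c ∉ P.asIdeal ∧ ∀ Q, ∃ (n : ℕ) (b : cr G), φ b = φ c ^ n * Q := by
      intro P
      by_cases h : φ a ∈ P.asIdeal
      · refine ⟨algebraMap R (cr G) ϖ, fun h' => P.isPrime.ne_top ((Ideal.eq_top_iff_one _).2 ?_), hwc⟩
        rw [show (1 : Polynomial R) = φ a + Polynomial.C ϖ * Y by rw [← hY]; ring]
        exact P.asIdeal.add_mem h (P.asIdeal.mul_mem_right _ (hC ▸ h'))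
      · exact ⟨a, h, ha⟩
    refine IsOpenImmersion.of_forall_source_exists _ ?_ fun P => ?_
    · intro P Q hPQ
      obtain ⟨c, hcP, hc⟩ := hcov P
      have hiff : ∀ b, φ b ∈ P.asIdeal ↔ φ b ∈ Q.asIdeal := fun b => by
        have := congrArg (fun (z : PrimeSpectrum (cr G)) => b ∈ z.asIdeal) hPQ
        exact Iff.of_eq this
      have hcQ : φ c ∉ Q.asIdeal := fun h => hcP ((hiff c).2 h)
      apply PrimeSpectrum.ext
      ext z
      obtain ⟨n, b, hb⟩ := hc z
      have h1 : z ∈ P.asIdeal ↔ φ b ∈ P.asIdeal := by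
        rw [hb]
        exact ⟨fun h => P.asIdeal.mul_mem_left _ h, fun h => (P.isPrime.mem_or_mem h).resolve_left fun h' => hcP (P.isPrime.mem_of_pow_mem n h')⟩
      have h2 : z ∈ Q.asIdeal ↔ φ b ∈ Q.asIdeal := by
        rw [hb]
        exact ⟨fun h => Q.asIdeal.mul_mem_left _ h, fun h => (Q.isPrime.mem_or_mem h).resolve_left fun h' => hcQ (Q.isPrime.mem_of_pow_mem n h')⟩
      rw [h1, h2, hiff]
    · obtain ⟨c, hcP, hc⟩ := hcov P
      haveI : IsOpenImmersion (Spec.map (CommRingCat.ofHom (algebraMap (Polynomial R) (Localization.Away (φ c))))) :=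
        IsOpenImmersion.of_isLocalization (φ c)
      refine ⟨_, Spec.map (CommRingCat.ofHom (algebraMap (Polynomial R) (Localization.Away (φ c)))), inferInstance, ?_, hloc c hc⟩
      rw [Scheme.Hom.opensRange_localizationAway (R := CommRingCat.of (Polynomial R)) (φ c)]
      exact hcP

end Ident

end Groth.Agent.GmModel.Additive
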