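import Groth.Agent.GmModel.Points
import Groth.Agent.AGFHull.Reduced
import Mathlib.RingTheory.Jacobson.Ring
import Mathlib.FieldTheory.IsAlgClosed.Basic
import Mathlib.RingTheory.Valuation.ValuationRing
import Mathlib.LinearAlgebra.Pi
import Mathlib.RingTheory.Coprime.Lemmas

/-!
# The integral coordinate of an affine smooth model of the multiplicative group
-/

set_option autoImplicit false
set_option backward.isDefEq.respectTransparency.types false

universe u

open CategoryTheory MonoidalCategory CartesianMonoidalCategory MonObj GrpObj AlgebraicGeometry Limits IsLocalRing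
open scoped TensorProduct

noncomputable section

namespace Groth.Agent.GmModel

/-- A function killed by all points is zero. -/
theorem eq_zero_of_algHom (k B : Type u) [Field k] [IsAlgClosed k] [CommRing B] [Algebra k B]
    [Algebra.FiniteType k B] [_root_.IsReduced B] (b : B) (h : ∀ φ : B →ₐ[k] k, φ b = 0) : b = 0 := by
  have : IsJacobsonRing B := isJacobsonRing_of_finiteType (A := k)
  have hj : b ∈ (⊥ : Ideal B).jacobson := by
    refine Ideal.mem_sInf.2 fun M hM => ?_
    have : M.IsMaximal := hM.2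
    letI := Ideal.Quotient.field M
    have : Module.Finite k (B ⧸ M) := finite_of_finite_type_of_isJacobsonRing k (B ⧸ M)
    let eqv := AlgEquiv.ofBijective (Algebra.ofId k (B ⧸ M))
      (IsAlgClosed.algebraMap_bijective_of_isIntegral (k := k) (K := B ⧸ M))
    have h1 := h (eqv.symm.toAlgHom.comp (Ideal.Quotient.mkₐ k M))
    exact Ideal.Quotient.eq_zero_iff_mem.1 (eqv.symm.injective (h1.trans (map_zero _).symm))
  rw [← Ideal.radical_eq_jacobson] at hj
  obtain ⟨n, hn⟩ := hj
  exact IsNilpotent.eq_zero ⟨n, by simpa using hn⟩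

section Smooth

variable {R : Type u} [CommRing R] [IsLocalRing R]

/-- A function on a smooth model killed by all special points is divisible. -/
theorem mem_of_residue [IsAlgClosed (ResidueField R)] {A : Type u} [CommRing A] [Algebra R A] [Algebra.Smooth R A]
    (a : A) (h : ∀ φ : A →ₐ[R] ResidueField R, φ a = 0) : a ∈ (maximalIdeal R).map (algebraMap R A) := by
  have : _root_.IsReduced (ResidueField R ⊗[R] A) := AGFHull.isReduced_of_smooth (ResidueField R) _
  have h1 : (1 : ResidueField R) ⊗ₜ[R] a = 0 := by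
    refine eq_zero_of_algHom (ResidueField R) _ _ fun φ => ?_
    exact h ((φ.restrictScalars R).comp Algebra.TensorProduct.includeRight)
  let J := (maximalIdeal R).map (algebraMap R A)
  let f : ResidueField R →ₐ[R] A ⧸ J := Ideal.Quotient.liftₐ (maximalIdeal R) (Algebra.ofId R (A ⧸ J)) fun r hr => by
    show algebraMap R (A ⧸ J) r = 0
    rw [IsScalarTower.algebraMap_apply R A]
    exact Ideal.Quotient.eq_zero_iff_mem.2 (Ideal.mem_map_of_mem _ hr)
  have h2 := congrArg (Algebra.TensorProduct.lift f (Ideal.Quotient.mkₐ R J) fun _ _ => Commute.all _ _) h1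
  rw [Algebra.TensorProduct.lift_tmul, map_one, _root_.one_mul, map_zero] at h2
  exact Ideal.Quotient.eq_zero_iff_mem.1 h2

end Smooth

variable {R : Type u} [CommRing R] [IsDomain R] [IsDiscreteValuationRing R]
variable {K : Type u} [Field K] [Algebra R K] [IsFractionRing R K]
variable {G : Over (Spec (CommRingCat.of R))} [IsAffine G.left] [GrpObj G]
  (e : Red.bc (Spec.map (CommRingCat.ofHom (algebraMap R K))) G ≅ Red.Gm (Spec (CommRingCat.of K))) [IsMonHom e.hom]

/-- The generic point of an integral point. -/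
def pK (K : Type u) [Field K] [Algebra R K] (g : specR (R := R) R ⟶ G) : specR (R := R) K ⟶ G :=
  spR (Algebra.ofId R K) ≫ g

lemma pa_pK (g : specR (R := R) R ⟶ G) (a : cr G) : pa (pK K g) a = algebraMap R K (pa g a) :=
  AlgHom.congr_fun (pa_comp (Algebra.ofId R K) g) a

lemma pK_mul (g h : specR (R := R) R ⟶ G) : pK K (g * h) = pK K g * pK K h := MonObj.comp_mul _ _ _

lemma pK_injective : Function.Injective (pK (G := G) K) := fun g h hh =>
  pa_injective (AlgHom.ext fun a => IsFractionRing.injective R K (by rw [← pa_pK, ← pa_pK, hh]))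

/-- The coordinate of an integral point. -/
def V (g : specR (R := R) R ⟶ G) : K := U e (B := K) (pK K g)

lemma V_mul (g h : specR (R := R) R ⟶ G) : V e (g * h) = V e g * V e h := by
  rw [V, pK_mul, U_mul]
  rfl

lemma V_ne_zero (g : specR (R := R) R ⟶ G) : V e g ≠ 0 := (U_isUnit e (B := K) (pK K g)).ne_zero

lemma V_one : V e (1 : specR (R := R) R ⟶ G) = 1 := by
  have h := V_mul e (1 : specR (R := R) R ⟶ G) 1
  rw [_root_.one_mul] at h
  exact mul_left_cancel₀ (V_ne_zero e 1) (h.symm.trans (_root_.mul_one _).symm)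

lemma V_pow (g : specR (R := R) R ⟶ G) (n : ℕ) : V e (g ^ n) = V e g ^ n := by
  induction n with
  | zero => rw [pow_zero, pow_zero, V_one]
  | succ n ih => rw [pow_succ, pow_succ, V_mul, ih]

lemma V_injective : Function.Injective (V e) := fun _ _ h => pK_injective (U_injective e (B := K) h)

include e in
/-- The integral points commute. -/
lemma commute (g h : specR (R := R) R ⟶ G) : g * h = h * g :=
  V_injective e (by rw [V_mul, V_mul, mul_comm])

variable {xT : specR (R := R) (LaurentPolynomial K) ⟶ G}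

lemma pa_pK_eq_ev (hT : U e xT = LaurentPolynomial.T 1) (g : specR (R := R) R ⟶ G) (a : cr G) :
    algebraMap R K (pa g a) = ev (Units.mk0 (V e g) (V_ne_zero e g)) (pa xT a) := by
  rw [← pa_pK, pa_eq_ev e hT (pK K g) (Units.mk0 (V e g) (V_ne_zero e g)) rfl]
  rfl

/-- Clearing denominators. -/
theorem exists_clear {ϖ : R} (hϖ : Irreducible ϖ) (hT : U e xT = LaurentPolynomial.T 1) :
    ∃ (N : ℕ) (a : cr G), pa xT a = algebraMap R (LaurentPolynomial K) (ϖ ^ N) * LaurentPolynomial.T 1 := by
  have key : ∀ z ∈ Submodule.span K (Set.range (pa xT)),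
      ∃ c : R, c ≠ 0 ∧ ∃ a : cr G, pa xT a = algebraMap R (LaurentPolynomial K) c * z := by
    intro z hz
    induction hz using Submodule.span_induction with
    | mem z hz => obtain ⟨a, rfl⟩ := hz; exact ⟨1, one_ne_zero, a, by rw [map_one, _root_.one_mul]⟩
    | zero => exact ⟨1, one_ne_zero, 0, by rw [map_zero, mul_zero]⟩
    | add y z _ _ hy hz =>
      obtain ⟨c, hc, a, ha⟩ := hy
      obtain ⟨d, hd, b, hb⟩ := hz
      refine ⟨c * d, mul_ne_zero hc hd, algebraMap R (cr G) d * a + algebraMap R (cr G) c * b, ?_⟩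
      rw [map_add, map_mul, map_mul, AlgHom.commutes, AlgHom.commutes, ha, hb, map_mul]
      ring
    | smul s z _ hz =>
      obtain ⟨c, hc, a, ha⟩ := hz
      obtain ⟨n, d, hd, rfl⟩ := IsFractionRing.div_surjective R s
      have hd' : d ≠ 0 := nonZeroDivisors.ne_zero hd
      have hdK : algebraMap R K d ≠ 0 := fun h => hd' (IsFractionRing.injective R K (h.trans (map_zero _).symm))
      refine ⟨c * d, mul_ne_zero hc hd', algebraMap R (cr G) n * a, ?_⟩
      rw [map_mul, AlgHom.commutes, ha, map_mul, Algebra.smul_def, IsScalarTower.algebraMap_apply R K (LaurentPolynomial K) d,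
        IsScalarTower.algebraMap_apply R K (LaurentPolynomial K) n, IsScalarTower.algebraMap_apply R K (LaurentPolynomial K) c,
        div_eq_mul_inv, map_mul]
      have h1 : algebraMap K (LaurentPolynomial K) (algebraMap R K d) * algebraMap K (LaurentPolynomial K) (algebraMap R K d)⁻¹ = 1 := by
        rw [← map_mul, mul_inv_cancel₀ hdK, map_one]
      linear_combination (-(algebraMap K (LaurentPolynomial K) (algebraMap R K c) * algebraMap K (LaurentPolynomial K) (algebraMap R K n) * z)) * h1
  obtain ⟨c, hc, a, ha⟩ := key _ (T_mem_adjoin e hT)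
  obtain ⟨N, u, rfl⟩ := IsDiscreteValuationRing.eq_unit_mul_pow_irreducible hc hϖ
  refine ⟨N, algebraMap R (cr G) (u⁻¹ : Rˣ) * a, ?_⟩
  rw [map_mul, AlgHom.commutes, ha, ← _root_.mul_assoc, ← map_mul, ← _root_.mul_assoc, Units.inv_mul, _root_.one_mul]

/-- The coordinate of an integral point is integral. -/
theorem exists_V_eq {ϖ : R} (hϖ : Irreducible ϖ) (hT : U e xT = LaurentPolynomial.T 1) (g : specR (R := R) R ⟶ G) :
    ∃ u : R, algebraMap R K u = V e g := by
  obtain ⟨N, a, ha⟩ := exists_clear e hϖ hT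
  rcases ValuationRing.isInteger_or_isInteger R (V e g) with ⟨u, hu⟩ | ⟨r, hr⟩
  · exact ⟨u, hu⟩
  have hk : algebraMap R K (pa (g ^ (N + 1)) a) = algebraMap R K (ϖ ^ N) * V e g ^ (N + 1) := by
    rw [pa_pK_eq_ev e hT, ha, map_mul, ev_T, ← V_pow]
    congr 1
    exact ((ev _).restrictScalars R).commutes _
  have h1 : algebraMap R K (pa (g ^ (N + 1)) a * r ^ (N + 1)) = algebraMap R K (ϖ ^ N) := by
    rw [map_mul, hk, map_pow _ r, hr, _root_.mul_assoc, ← mul_pow, mul_inv_cancel₀ (V_ne_zero e g), one_pow, _root_.mul_one]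
  by_cases hru : IsUnit r
  · obtain ⟨v, rfl⟩ := hru
    refine ⟨(v⁻¹ : Rˣ), ?_⟩
    rw [map_units_inv, hr, _root_.inv_inv]
  · exfalso
    obtain ⟨r', rfl⟩ : ϖ ∣ r := by
      rw [← Ideal.mem_span_singleton, ← hϖ.maximalIdeal_eq]
      exact hru
    have h2 := IsFractionRing.injective R K h1
    refine hϖ.not_isUnit (IsUnit.of_mul_eq_one (pa (g ^ (N + 1)) a * r' ^ (N + 1)) (mul_left_cancel₀ (pow_ne_zero N hϖ.ne_zero) ?_))
    rw [_root_.mul_one]
    conv_rhs => rw [← h2]
    ring

/-- The coordinate is an integral function. -/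
theorem exists_coord [IsAdicComplete (maximalIdeal R) R] [IsAlgClosed (ResidueField R)] [Algebra.Smooth R (cr G)]
    (hT : U e xT = LaurentPolynomial.T 1) : ∃ t : cr G, pa xT t = LaurentPolynomial.T 1 := by
  obtain ⟨ϖ, hϖ⟩ := IsDiscreteValuationRing.exists_irreducible R
  obtain ⟨N, a, ha⟩ := exists_clear e hϖ hT
  induction N generalizing a with
  | zero => exact ⟨a, by rw [ha, pow_zero, map_one, _root_.one_mul]⟩
  | succ N ih =>
    have h0 : ∀ φ : cr G →ₐ[R] ResidueField R, φ a = 0 := by
      intro φ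
      obtain ⟨ψ, hψ⟩ := Algebra.FormallySmooth.exists_mkₐ_comp_eq_of_isAdicComplete (I := maximalIdeal R) (S := R)
        (A := cr G) (R := R) φ
      obtain ⟨u, hu⟩ := exists_V_eq e hϖ hT (pp ψ)
      have h1 : ψ a = ϖ ^ (N + 1) * u := by
        apply IsFractionRing.injective R K
        rw [map_mul, hu, ← congrArg (fun f : cr G →ₐ[R] R => f a) (pa_pp ψ), pa_pK_eq_ev e hT, ha, map_mul, ev_T]
        congr 1
        exact ((ev _).restrictScalars R).commutes _
      rw [← hψ]
      show IsLocalRing.residue R (ψ a) = 0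
      rw [residue_eq_zero_iff, h1, hϖ.maximalIdeal_eq, Ideal.mem_span_singleton]
      exact (dvd_pow_self ϖ N.succ_ne_zero).mul_right u
    have h2 := mem_of_residue a h0
    rw [hϖ.maximalIdeal_eq, Ideal.map_span, Set.image_singleton, Ideal.mem_span_singleton] at h2
    obtain ⟨a', rfl⟩ := h2
    refine ih a' (mul_left_cancel₀ (a := algebraMap R (LaurentPolynomial K) ϖ) ?_ ?_)
    · rw [IsScalarTower.algebraMap_apply R K (LaurentPolynomial K)]
      refine fun h => hϖ.ne_zero (IsFractionRing.injective R K ?_)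
      rw [map_zero]
      exact (algebraMap K (LaurentPolynomial K)).injective (h.trans (map_zero _).symm)
    · rw [map_mul, AlgHom.commutes] at ha
      rw [ha, pow_succ', map_mul, _root_.mul_assoc]

section Coord

variable {t : cr G} (hT : U e xT = LaurentPolynomial.T 1) (ht : pa xT t = LaurentPolynomial.T 1)

include hT ht

lemma algebraMap_coord (g : specR (R := R) R ⟶ G) : algebraMap R K (pa g t) = V e g := by
  rw [pa_pK_eq_ev e hT, ht, ev_T]
  rfl

lemma coord_mul (g h : specR (R := R) R ⟶ G) : pa (g * h) t = pa g t * pa h t := IsFractionRing.injective R K (by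
  rw [map_mul, algebraMap_coord e hT ht, algebraMap_coord e hT ht, algebraMap_coord e hT ht, V_mul])

lemma coord_one : pa (1 : specR (R := R) R ⟶ G) t = 1 := IsFractionRing.injective R K (by
  rw [map_one, algebraMap_coord e hT ht, V_one])

lemma coord_pow (g : specR (R := R) R ⟶ G) (n : ℕ) : pa (g ^ n) t = pa g t ^ n := by
  induction n with
  | zero => rw [pow_zero, pow_zero, coord_one e hT ht]
  | succ n ih => rw [pow_succ, pow_succ, coord_mul e hT ht, ih]

lemma coord_isUnit (g : specR (R := R) R ⟶ G) : IsUnit (pa g t) :=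
  IsUnit.of_mul_eq_one (pa g⁻¹ t) (by rw [← coord_mul e hT ht, _root_.mul_inv_cancel, coord_one e hT ht])

/-- All functions of an integral point are Laurent polynomials in the coordinate. -/
lemma pa_coord (g : specR (R := R) R ⟶ G) (a : cr G) (v : Rˣ) (hv : (v : R) = pa g t) :
    algebraMap R K (pa g a) = ev (Units.map (algebraMap R K).toMonoidHom v) (pa xT a) := by
  rw [pa_pK_eq_ev e hT]
  congr 2
  ext
  simp [hv, algebraMap_coord e hT ht]

end Coord

/-- The difference quotients of a Laurent polynomial are bounded. -/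
theorem exists_sub_bound (f : LaurentPolynomial K) : ∃ d : R, d ≠ 0 ∧ ∀ u : Rˣ, ∃ r : R,
    algebraMap R K d * (ev (Units.map (algebraMap R K).toMonoidHom u) f - ev 1 f) = algebraMap R K (((u : R) - 1) * r) := by
  induction f using LaurentPolynomial.induction_on' with
  | add f g hf hg =>
    obtain ⟨d, hd, hf⟩ := hf
    obtain ⟨c, hc, hg⟩ := hg
    refine ⟨d * c, mul_ne_zero hd hc, fun u => ?_⟩
    obtain ⟨r, hr⟩ := hf u
    obtain ⟨s, hs⟩ := hg u
    refine ⟨c * r + d * s, ?_⟩
    simp only [map_add, map_mul] at hr hs ⊢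
    linear_combination algebraMap R K c * hr + algebraMap R K d * hs
  | C_mul_T n a =>
    obtain ⟨b, d, hd, rfl⟩ := IsFractionRing.div_surjective R a
    refine ⟨d, nonZeroDivisors.ne_zero hd, fun u => ?_⟩
    obtain ⟨r, hr⟩ : ((u : R) - 1) ∣ ((u ^ n : Rˣ) : R) - 1 := by
      obtain ⟨m, rfl | rfl⟩ := n.eq_nat_or_neg
      · rw [zpow_natCast, Units.val_pow_eq_pow_val]
        exact sub_one_dvd_pow_sub_one _ m
      · rw [zpow_neg, zpow_natCast,
          show (((u ^ m)⁻¹ : Rˣ) : R) - 1 = -(((u ^ m)⁻¹ : Rˣ) : R) * ((u : R) ^ m - 1) by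
            rw [← Units.val_pow_eq_pow_val, mul_sub, neg_mul, _root_.mul_one, Units.inv_mul]; ring]
        exact (sub_one_dvd_pow_sub_one _ m).mul_left _
    refine ⟨b * r, ?_⟩
    have hdK : algebraMap R K d ≠ 0 := fun h =>
      nonZeroDivisors.ne_zero hd (IsFractionRing.injective R K (h.trans (map_zero _).symm))
    rw [ev_C_mul_T, ev_C_mul_T, one_zpow, Units.val_one, ← map_zpow, Units.coe_map]
    have h2 := congrArg (algebraMap R K) hr
    simp only [map_sub, map_one, map_mul] at h2 ⊢
    field_simp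
    linear_combination algebraMap R K b * h2

/-- The shift of sequences. -/
def shift (M : Type u) [CommRing M] : Module.End M (ℕ → M) := LinearMap.funLeft M M Nat.succ

lemma shift_map {M M' : Type u} [CommRing M] [CommRing M'] (f : M →+* M') (L : ℕ) (F : ℕ → M) (s : ℕ) :
    ((shift M' - 1) ^ L) (f ∘ F) s = f (((shift M - 1) ^ L) F s) := by
  induction L generalizing F with
  | zero => rfl
  | succ L ih =>
    rw [pow_succ, pow_succ, Module.End.mul_apply, Module.End.mul_apply, ← ih]
    refine congrFun (congrArg _ (funext fun i => ?_)) s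
    simp [shift]

lemma shift_geom {M : Type u} [CommRing M] (c w : M) (L s : ℕ) :
    ((shift M - 1) ^ L) (fun i => c * w ^ i) s = c * (w - 1) ^ L * w ^ s := by
  induction L generalizing c with
  | zero => simp
  | succ L ih =>
    rw [pow_succ, Module.End.mul_apply,
      show (shift M - 1) (fun i => c * w ^ i) = fun i => (c * (w - 1)) * w ^ i from funext fun i => by
        simp [shift, pow_succ]; ring, ih, pow_succ]
    ring

/-- High differences along a one-unit become small. -/
theorem exists_diff_bound {ϖ : R} (hϖ : Irreducible ϖ) (f : LaurentPolynomial K) :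
    ∃ M : ℕ, ∀ L, M ≤ L → ∀ u : Rˣ, ϖ ∣ (u : R) - 1 → ∀ s : ℕ, ∃ r : R,
      ((shift K - 1) ^ (L + 1)) (fun i => ev (Units.map (algebraMap R K).toMonoidHom (u ^ i)) f) s =
        algebraMap R K (ϖ * r) := by
  induction f using LaurentPolynomial.induction_on' with
  | add f g hf hg =>
    obtain ⟨M, hM⟩ := hf
    obtain ⟨M', hM'⟩ := hg
    refine ⟨max M M', fun L hL u hu s => ?_⟩
    obtain ⟨r, hr⟩ := hM L (le_trans (le_max_left _ _) hL) u hu s
    obtain ⟨r', hr'⟩ := hM' L (le_trans (le_max_right _ _) hL) u hu s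
    refine ⟨r + r', ?_⟩
    simp only [map_add]
    rw [show (fun i => ev (Units.map (algebraMap R K).toMonoidHom (u ^ i)) f + ev (Units.map (algebraMap R K).toMonoidHom (u ^ i)) g) =
      (fun i => ev (Units.map (algebraMap R K).toMonoidHom (u ^ i)) f) + (fun i => ev (Units.map (algebraMap R K).toMonoidHom (u ^ i)) g) from rfl,
      map_add, Pi.add_apply, hr, hr', mul_add, map_add]
  | C_mul_T n a =>
    obtain ⟨b, d, hd, rfl⟩ := IsFractionRing.div_surjective R a
    obtain ⟨M, v, rfl⟩ := IsDiscreteValuationRing.eq_unit_mul_pow_irreducible (nonZeroDivisors.ne_zero hd) hϖ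
    refine ⟨M, fun L hL u hu s => ?_⟩
    obtain ⟨z, hz⟩ : ϖ ∣ ((u ^ n : Rˣ) : R) - 1 := by
      refine hu.trans ?_
      obtain ⟨m, rfl | rfl⟩ := n.eq_nat_or_neg
      · rw [zpow_natCast, Units.val_pow_eq_pow_val]
        exact sub_one_dvd_pow_sub_one _ m
      · rw [zpow_neg, zpow_natCast,
          show (((u ^ m)⁻¹ : Rˣ) : R) - 1 = -(((u ^ m)⁻¹ : Rˣ) : R) * ((u : R) ^ m - 1) by
            rw [← Units.val_pow_eq_pow_val, mul_sub, neg_mul, _root_.mul_one, Units.inv_mul]; ring]
        exact (sub_one_dvd_pow_sub_one _ m).mul_left _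
    obtain ⟨j, rfl⟩ := Nat.exists_eq_add_of_le hL
    refine ⟨b * (v⁻¹ : Rˣ) * ϖ ^ j * z ^ (M + j + 1) * ((u ^ n : Rˣ) : R) ^ s, ?_⟩
    have hK : ∀ i : ℕ, ev (Units.map (algebraMap R K).toMonoidHom (u ^ i))
        (LaurentPolynomial.C (algebraMap R K b / algebraMap R K (↑v * ϖ ^ M)) * LaurentPolynomial.T n) =
        algebraMap R K b / algebraMap R K (↑v * ϖ ^ M) * algebraMap R K ((u ^ n : Rˣ) : R) ^ i := fun i => by
      rw [ev_C_mul_T, map_pow (Units.map _), ← zpow_natCast, ← zpow_mul, mul_comm (i : ℤ), zpow_mul, zpow_natCast,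
        Units.val_pow_eq_pow_val, ← map_zpow, Units.coe_map]
      rfl
    simp only [hK]
    rw [shift_geom, ← map_one (algebraMap R K), ← map_sub, hz]
    have hp : algebraMap R K ϖ ≠ 0 := fun h => hϖ.ne_zero (IsFractionRing.injective R K (h.trans (map_zero _).symm))
    have hv : algebraMap R K (v : R) ≠ 0 := (v.isUnit.map (algebraMap R K)).ne_zero
    simp only [map_mul, map_pow, map_units_inv]
    field_simp
    ring

end Groth.Agent.GmModel
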