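import Groth.Agent.GmModel.Special
import Groth.Agent.GmModel.Setup
import Mathlib.RingTheory.Smooth.Flat
import Mathlib.FieldTheory.IsAlgClosed.Basic

/-!
# Models of the multiplicative group with toric special fibre
-/

set_option autoImplicit false
set_option backward.isDefEq.respectTransparency.types false

universe u

open CategoryTheory MonoidalCategory CartesianMonoidalCategory MonObj GrpObj AlgebraicGeometry Limits IsLocalRing TopologicalSpace
open scoped TensorProduct

noncomputable section

namespace Groth.Agent.GmModel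

/-- The algebra map out of Laurent polynomials given by a unit. -/
def laurentHom (S B : Type u) [CommRing S] [CommRing B] [Algebra S B] (v : Bˣ) : LaurentPolynomial S →ₐ[S] B :=
  AddMonoidAlgebra.lift S B ℤ ((Units.coeHom B).comp (zpowersHom Bˣ v))

lemma laurentHom_C_mul_T {S B : Type u} [CommRing S] [CommRing B] [Algebra S B] (v : Bˣ) (c : S) (n : ℤ) :
    laurentHom S B v (LaurentPolynomial.C c * LaurentPolynomial.T n) = algebraMap S B c * ((v ^ n : Bˣ) : B) := by
  rw [← LaurentPolynomial.single_eq_C_mul_T, laurentHom, AddMonoidAlgebra.lift_single, Algebra.smul_def]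
  simp

lemma laurentHom_T {S B : Type u} [CommRing S] [CommRing B] [Algebra S B] (v : Bˣ) :
    laurentHom S B v (LaurentPolynomial.T 1) = (v : B) := by
  have := laurentHom_C_mul_T v (1 : S) 1
  simpa using this

/-- The unit `T`. -/
def unitT (S : Type u) [CommRing S] : (LaurentPolynomial S)ˣ where
  val := LaurentPolynomial.T 1
  inv := LaurentPolynomial.T (-1)
  val_inv := by rw [← LaurentPolynomial.T_add]; simp
  inv_val := by rw [← LaurentPolynomial.T_add]; simp

lemma unitT_zpow (S : Type u) [CommRing S] (n : ℤ) : ((unitT S ^ n : (LaurentPolynomial S)ˣ) : LaurentPolynomial S) = LaurentPolynomial.T n := by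
  induction n with
  | zero => simp
  | succ n ih => rw [zpow_add_one, Units.val_mul, ih, LaurentPolynomial.T_add]; rfl
  | pred n ih => rw [zpow_sub_one, Units.val_mul, ih, LaurentPolynomial.T_sub]; rfl

variable {R : Type u} [CommRing R] [IsDomain R] [IsDiscreteValuationRing R]
variable {K : Type u} [Field K] [Algebra R K] [IsFractionRing R K]
variable {G : Over (Spec (CommRingCat.of R))} [IsAffine G.left] [GrpObj G]
  (e : Red.bc (Spec.map (CommRingCat.ofHom (algebraMap R K))) G ≅ Red.Gm (Spec (CommRingCat.of K))) [IsMonHom e.hom]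
variable {xT : specR (R := R) (LaurentPolynomial K) ⟶ G}

lemma pa_then {H : Over (Spec (CommRingCat.of R))} {B : Type u} [CommRing B] [Algebra R B]
    (z : specR (R := R) B ⟶ H) (f : H ⟶ G) (a : cr G) : pa (z ≫ f) a = pa z (f.left.appTop a) := rfl

/-- Every point of the generic fibre comes from the universal one. -/
theorem exists_factor (hT : U e xT = LaurentPolynomial.T 1) {B : Type u} [CommRing B] [Algebra K B] [Algebra R B]
    [IsScalarTower R K B] (y : specR (R := R) B ⟶ G) :
    ∃ φ : LaurentPolynomial K →ₐ[K] B, pa y = (φ.restrictScalars R).comp (pa xT) ∧ φ (LaurentPolynomial.T 1) = U e y := by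
  refine ⟨laurentHom K B (U_isUnit e y).unit, ?_, laurentHom_T _⟩
  rw [← pa_comp]
  congr 1
  refine U_injective e ?_
  rw [U_comp, hT, laurentHom_T]
  rfl

/-- Every Laurent polynomial is a combination of the functions. -/
theorem mem_span (hT : U e xT = LaurentPolynomial.T 1) (f : LaurentPolynomial K) :
    f ∈ Submodule.span K (Set.range (pa xT)) := by
  let S : Subalgebra K (LaurentPolynomial K) := Algebra.adjoin K (Set.range (pa xT))
  have h2 : Subalgebra.toSubmodule S = Submodule.span K (Set.range (pa xT)) := by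
    rw [Algebra.adjoin_eq_span]
    congr 1
    refine le_antisymm ?_ Submonoid.subset_closure
    intro z hz
    exact ((Submonoid.closure_le (S := MonoidHom.mrange (pa xT).toRingHom.toMonoidHom)).2 fun _ h => h) hz
  rw [← h2, Subalgebra.mem_toSubmodule]
  let φ : cr G →ₐ[R] S := AlgHom.codRestrict (pa xT) (S.restrictScalars R) fun a => Algebra.subset_adjoin ⟨a, rfl⟩
  have hx : spR (S.val.restrictScalars R) ≫ pp φ = xT := pa_injective (by
    rw [pa_comp, pa_pp]
    ext a
    rfl)
  obtain ⟨v, hv⟩ := U_isUnit e (pp φ)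
  have h1 : S.val (v : S) = LaurentPolynomial.T 1 := by rw [hv, ← U_comp, hx, hT]
  have h : ∀ n : ℤ, LaurentPolynomial.T n ∈ S := fun n => by
    rw [← unitT_zpow, show unitT K = Units.map S.val.toRingHom.toMonoidHom v from Units.ext h1.symm, ← map_zpow,
      Units.coe_map]
    exact (v ^ n : Sˣ).1.2
  induction f using LaurentPolynomial.induction_on' with
  | add f g hf hg => exact S.add_mem hf hg
  | C_mul_T n a => exact S.mul_mem (S.algebraMap_mem a) (h n)

/-- Clearing denominators of any element. -/
theorem exists_clear_all {ϖ : R} (hϖ : Irreducible ϖ) (hT : U e xT = LaurentPolynomial.T 1) (f : LaurentPolynomial K) :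
    ∃ (N : ℕ) (a : cr G), pa xT a = algebraMap R (LaurentPolynomial K) (ϖ ^ N) * f := by
  have key : ∀ z ∈ Submodule.span K (Set.range (pa xT)),
      ∃ c : R, c ≠ 0 ∧ ∃ a : cr G, pa xT a = algebraMap R (LaurentPolynomial K) c * z := by
    intro z hz
    induction hz using Submodule.span_induction with
    | mem z hz => obtain ⟨a, rfl⟩ := hz; exact ⟨1, one_ne_zero, a, by rw [map_one, _root_.one_mul]⟩
    | zero => exact ⟨1, one_ne_zero, 0, by rw [map_zero, mul_zero]⟩
    | add y z _ _ hy hz =>
      obtain ⟨c, hc, a, ha⟩ := hy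
      obtain ⟨d, hd, b, hb⟩ := hz
      refine ⟨c * d, mul_ne_zero hc hd, algebraMap R (cr G) d * a + algebraMap R (cr G) c * b, ?_⟩
      rw [map_add, map_mul, map_mul, AlgHom.commutes, AlgHom.commutes, ha, hb, map_mul]
      ring
    | smul s z _ hz =>
      obtain ⟨c, hc, a, ha⟩ := hz
      obtain ⟨n, d, hd, rfl⟩ := IsFractionRing.div_surjective R s
      have hd' : d ≠ 0 := nonZeroDivisors.ne_zero hd
      have hdK : algebraMap R K d ≠ 0 := fun h => hd' (IsFractionRing.injective R K (h.trans (map_zero _).symm))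
      refine ⟨c * d, mul_ne_zero hc hd', algebraMap R (cr G) n * a, ?_⟩
      rw [map_mul, AlgHom.commutes, ha, map_mul, Algebra.smul_def, IsScalarTower.algebraMap_apply R K (LaurentPolynomial K) d,
        IsScalarTower.algebraMap_apply R K (LaurentPolynomial K) n, IsScalarTower.algebraMap_apply R K (LaurentPolynomial K) c,
        div_eq_mul_inv, map_mul]
      have h1 : algebraMap K (LaurentPolynomial K) (algebraMap R K d) * algebraMap K (LaurentPolynomial K) (algebraMap R K d)⁻¹ = 1 := by
        rw [← map_mul, mul_inv_cancel₀ hdK, map_one]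
      linear_combination (-(algebraMap K (LaurentPolynomial K) (algebraMap R K c) * algebraMap K (LaurentPolynomial K) (algebraMap R K n) * z)) * h1
  obtain ⟨c, hc, a, ha⟩ := key _ (mem_span e hT f)
  obtain ⟨N, u, rfl⟩ := IsDiscreteValuationRing.eq_unit_mul_pow_irreducible hc hϖ
  refine ⟨N, algebraMap R (cr G) (u⁻¹ : Rˣ) * a, ?_⟩
  rw [map_mul, AlgHom.commutes, ha, ← _root_.mul_assoc, ← map_mul, ← _root_.mul_assoc, Units.inv_mul, _root_.one_mul]

variable [Algebra.Smooth R (cr G)]

/-- The functions embed into those of the generic fibre. -/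
theorem pa_xT_injective (hT : U e xT = LaurentPolynomial.T 1) : Function.Injective (pa xT) := by
  let inc : cr G →ₐ[R] K ⊗[R] cr G := Algebra.TensorProduct.includeRight
  obtain ⟨φ, hφ, -⟩ := exists_factor e hT (pp inc)
  rw [pa_pp] at hφ
  have hi : Function.Injective inc := Algebra.TensorProduct.includeRight_injective (IsFractionRing.injective R K)
  intro a b h
  exact hi (by rw [hφ, AlgHom.comp_apply, AlgHom.comp_apply, h])

section Coord

variable {t : cr G} (hT : U e xT = LaurentPolynomial.T 1) (ht : pa xT t = LaurentPolynomial.T 1)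

include hT ht

omit [Algebra.Smooth R (cr G)] in
/-- The coordinate is multiplicative over torsion-free algebras. -/
theorem coord_mul_flat {B : Type u} [CommRing B] [Algebra R B] [Module.Flat R B] (x y : specR (R := R) B ⟶ G) :
    pa (x * y) t = pa x t * pa y t := by
  let inc : B →ₐ[R] K ⊗[R] B := Algebra.TensorProduct.includeRight
  have hi : Function.Injective inc := Algebra.TensorProduct.includeRight_injective (IsFractionRing.injective R K)
  have hU : ∀ z : specR (R := R) (K ⊗[R] B) ⟶ G, pa z t = U e z := fun z => by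
    obtain ⟨φ, hφ, hφT⟩ := exists_factor e hT z
    rw [hφ, AlgHom.comp_apply, ht]
    exact hφT
  have hc : ∀ z : specR (R := R) B ⟶ G, inc (pa z t) = U e (B := K ⊗[R] B) (spR inc ≫ z) := fun z => by
    rw [← hU, pa_comp]
    rfl
  apply hi
  rw [map_mul, hc, hc, hc, MonObj.comp_mul, U_mul]

variable [IsAdicComplete (maximalIdeal R) R] [IsAlgClosed (ResidueField R)]

/-- The coordinate is a unit. -/
theorem isUnit_coord : IsUnit t := by
  obtain ⟨ϖ, hϖ⟩ := IsDiscreteValuationRing.exists_irreducible R
  suffices h : ∃ s, pa xT s = LaurentPolynomial.T (-1) by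
    obtain ⟨s, hs⟩ := h
    refine IsUnit.of_mul_eq_one s (pa_xT_injective e hT ?_)
    rw [map_mul, ht, hs, map_one, ← LaurentPolynomial.T_add]
    simp
  obtain ⟨N, a, ha⟩ := exists_clear_all e hϖ hT (LaurentPolynomial.T (-1))
  induction N generalizing a with
  | zero => exact ⟨a, by rw [ha, pow_zero, map_one, _root_.one_mul]⟩
  | succ N ih =>
    have h0 : ∀ φ : cr G →ₐ[R] ResidueField R, φ a = 0 := by
      intro φ
      obtain ⟨ψ, hψ⟩ := Algebra.FormallySmooth.exists_mkₐ_comp_eq_of_isAdicComplete (I := maximalIdeal R) (S := R)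
        (A := cr G) (R := R) φ
      obtain ⟨u, hu⟩ := coord_isUnit e hT ht (pp ψ)
      have h1 : ψ a = ϖ ^ (N + 1) * ((u⁻¹ : Rˣ) : R) := by
        apply IsFractionRing.injective R K
        rw [map_mul, ← congrArg (fun f : cr G →ₐ[R] R => f a) (pa_pp ψ), pa_coord e hT ht (pp ψ) a u hu, ha, map_mul]
        congr 1
        · exact ((ev _).restrictScalars R).commutes _
        · rw [← _root_.one_mul (LaurentPolynomial.T (-1) : LaurentPolynomial K), ← map_one LaurentPolynomial.C,
            ev_C_mul_T, _root_.one_mul, zpow_neg_one, ← map_inv]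
          rfl
      rw [← hψ]
      show IsLocalRing.residue R (ψ a) = 0
      rw [residue_eq_zero_iff, h1, hϖ.maximalIdeal_eq, Ideal.mem_span_singleton]
      exact (dvd_pow_self ϖ N.succ_ne_zero).mul_right _
    have h2 := mem_of_residue a h0
    rw [hϖ.maximalIdeal_eq, Ideal.map_span, Set.image_singleton, Ideal.mem_span_singleton] at h2
    obtain ⟨a', rfl⟩ := h2
    refine ih a' (mul_left_cancel₀ (a := algebraMap R (LaurentPolynomial K) ϖ) ?_ ?_)
    · rw [IsScalarTower.algebraMap_apply R K (LaurentPolynomial K)]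
      refine fun h => hϖ.ne_zero (IsFractionRing.injective R K ?_)
      rw [map_zero]
      exact (algebraMap K (LaurentPolynomial K)).injective (h.trans (map_zero _).symm)
    · rw [map_mul, AlgHom.commutes] at ha
      rw [ha, pow_succ', map_mul, _root_.mul_assoc]

/-- The functions are the Laurent polynomials in the coordinate, once it takes infinitely many special values. -/
theorem laurentHom_bijective
    (hinf : (Set.range fun x : 𝟙_ (Over (Spec (CommRingCat.of (ResidueField R)))) ⟶ sf G => pa (up x) t).Infinite) :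
    Function.Bijective (laurentHom R (cr G) (isUnit_coord e hT ht).unit) := by
  obtain ⟨ϖ, hϖ⟩ := IsDiscreteValuationRing.exists_irreducible R
  let tU := (isUnit_coord e hT ht).unit
  let Φ := laurentHom R (cr G) tU
  have hκ : ∀ c n, pa xT (Φ (LaurentPolynomial.C c * LaurentPolynomial.T n)) =
      algebraMap R (LaurentPolynomial K) c * LaurentPolynomial.T n := fun c n => by
    rw [laurentHom_C_mul_T, map_mul, AlgHom.commutes]
    congr 1
    rw [← unitT_zpow, show unitT K = Units.map (pa xT).toRingHom.toMonoidHom tU from Units.ext ht.symm, ← map_zpow]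
    rfl
  have hκi : Function.Injective fun g => pa xT (Φ g) := by
    let f : R →+* K := algebraMap R K
    have : ∀ g, pa xT (Φ g) = AddMonoidAlgebra.mapRingHom ℤ f g := by
      intro g
      induction g using LaurentPolynomial.induction_on' with
      | add g g' hg hg' => rw [map_add, map_add, hg, hg', map_add]
      | C_mul_T n a =>
        rw [hκ, ← LaurentPolynomial.single_eq_C_mul_T, AddMonoidAlgebra.mapRingHom_single,
          IsScalarTower.algebraMap_apply R K (LaurentPolynomial K), LaurentPolynomial.single_eq_C_mul_T]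
        rfl
    intro g g' h
    simp only [this] at h
    exact AddMonoidAlgebra.ext (Finsupp.ext fun n => by
      simpa [f] using congr(($h).coeff n))
  refine ⟨fun g g' h => hκi (congrArg (pa xT) h), fun a => ?_⟩
  have hden : ∀ f : LaurentPolynomial K, ∃ (N : ℕ) (g : LaurentPolynomial R),
      pa xT (Φ g) = algebraMap R (LaurentPolynomial K) (ϖ ^ N) * f := by
    intro f
    induction f using LaurentPolynomial.induction_on' with
    | add f f' hf hf' =>
      obtain ⟨N, g, hg⟩ := hf
      obtain ⟨N', g', hg'⟩ := hf'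
      refine ⟨N + N', algebraMap R _ (ϖ ^ N') * g + algebraMap R _ (ϖ ^ N) * g', ?_⟩
      rw [map_add, map_add, map_mul, map_mul, AlgHom.commutes, AlgHom.commutes, map_mul, map_mul, AlgHom.commutes,
        AlgHom.commutes, hg, hg', pow_add, map_mul]
      ring
    | C_mul_T n c =>
      obtain ⟨b, d, hd, rfl⟩ := IsFractionRing.div_surjective R c
      obtain ⟨N, v, rfl⟩ := IsDiscreteValuationRing.eq_unit_mul_pow_irreducible (nonZeroDivisors.ne_zero hd) hϖ
      refine ⟨N, LaurentPolynomial.C (b * (v⁻¹ : Rˣ)) * LaurentPolynomial.T n, ?_⟩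
      rw [hκ, ← _root_.mul_assoc, IsScalarTower.algebraMap_apply R K (LaurentPolynomial K),
        IsScalarTower.algebraMap_apply R K (LaurentPolynomial K) (ϖ ^ N)]
      congr 1
      show LaurentPolynomial.C _ = LaurentPolynomial.C _ * LaurentPolynomial.C _
      rw [← map_mul LaurentPolynomial.C]
      congr 1
      have hp : algebraMap R K ϖ ≠ 0 := fun h => hϖ.ne_zero (IsFractionRing.injective R K (h.trans (map_zero _).symm))
      have hv : algebraMap R K (v : R) ≠ 0 := (v.isUnit.map (algebraMap R K)).ne_zero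
      simp only [map_mul, map_pow, map_units_inv]
      field_simp
  obtain ⟨N, g, hg⟩ := hden (pa xT a)
  replace hg : Φ g = algebraMap R (cr G) (ϖ ^ N) * a := pa_xT_injective e hT (by rw [hg, map_mul, AlgHom.commutes])
  induction N generalizing g with
  | zero => exact ⟨g, by rw [show laurentHom R (cr G) _ g = Φ g from rfl, hg, pow_zero, map_one, _root_.one_mul]⟩
  | succ N ih =>
    obtain ⟨n, P, hP⟩ := LaurentPolynomial.exists_T_pow g
    have hzero : ∀ x : 𝟙_ (Over (Spec (CommRingCat.of (ResidueField R)))) ⟶ sf G,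
        (P.map (residue R)).IsRoot (pa (up x) t) := by
      intro x
      have h1 : pa (up x) (Φ (Polynomial.toLaurent P)) = 0 := by
        rw [hP, map_mul, hg, map_mul, map_mul, AlgHom.commutes,
          show algebraMap R (ResidueField R) (ϖ ^ (N + 1)) = 0 by
            rw [map_pow, show algebraMap R (ResidueField R) ϖ = 0 by
              show residue R ϖ = 0
              rw [residue_eq_zero_iff, hϖ.maximalIdeal_eq]; exact Ideal.mem_span_singleton_self ϖ, zero_pow N.succ_ne_zero],
          zero_mul, zero_mul]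
      have h2 : ((pa (up x)).comp (Φ.comp (Polynomial.toLaurentAlg (R := R)))) = Polynomial.aeval (pa (up x) t) :=
        Polynomial.algHom_ext (by
          rw [AlgHom.comp_apply, AlgHom.comp_apply, Polynomial.toLaurentAlg_apply, Polynomial.toLaurent_X,
            Polynomial.aeval_X, laurentHom_T]
          rfl)
      rw [Polynomial.IsRoot, Polynomial.eval_map, ← h1]
      exact ((AlgHom.congr_fun h2 P).trans rfl).symm
    have hP0 : P.map (residue R) = 0 := Polynomial.eq_zero_of_infinite_isRoot _
      (hinf.mono (by rintro _ ⟨x, rfl⟩; exact hzero x))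
    obtain ⟨P', rfl⟩ : Polynomial.C ϖ ∣ P := by
      rw [Polynomial.C_dvd_iff_dvd_coeff]
      intro i
      have := congrArg (fun Q : Polynomial (ResidueField R) => Q.coeff i) hP0
      rwa [Polynomial.coeff_map, Polynomial.coeff_zero, residue_eq_zero_iff, hϖ.maximalIdeal_eq,
        Ideal.mem_span_singleton] at this
    refine ih (Polynomial.toLaurent P' * LaurentPolynomial.T (-(n : ℤ))) ?_
    have hg' : g = algebraMap R (LaurentPolynomial R) ϖ * (Polynomial.toLaurent P' * LaurentPolynomial.T (-(n : ℤ))) := by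
      have h3 := congrArg (· * LaurentPolynomial.T (-(n : ℤ))) hP
      simp only [map_mul, Polynomial.toLaurent_C, _root_.mul_assoc, ← LaurentPolynomial.T_add, add_neg_cancel,
        LaurentPolynomial.T_zero, _root_.mul_one] at h3
      exact h3.symm
    simp only [hg', map_mul, AlgHom.commutes, pow_succ', _root_.mul_assoc] at hg
    refine pa_xT_injective e hT (mul_left_cancel₀ (a := algebraMap R (LaurentPolynomial K) ϖ) ?_ ?_)
    · rw [IsScalarTower.algebraMap_apply R K (LaurentPolynomial K)]
      refine fun h => hϖ.ne_zero (IsFractionRing.injective R K ?_)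
      rw [map_zero]
      exact (algebraMap K (LaurentPolynomial K)).injective (h.trans (map_zero _).symm)
    · have := congrArg (pa xT) hg
      simp only [map_mul, AlgHom.commutes, _root_.mul_assoc] at this ⊢
      exact this

/-- The model is connected on the special fibre. -/
theorem connectedSpace_sf [Smooth G.hom] [LocallyOfFiniteType G.hom] [IsAffineHom G.hom]
    (hinf : (Set.range fun x : 𝟙_ (Over (Spec (CommRingCat.of (ResidueField R)))) ⟶ sf G => pa (up x) t).Infinite) :
    ConnectedSpace (sf G).left := by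
  have : LocallyOfFiniteType (sf G).hom := MorphismProperty.pullback_snd (P := @LocallyOfFiniteType) G.hom _ ‹_›
  have : Smooth (sf G).hom := MorphismProperty.pullback_snd (P := @Smooth) G.hom _ ‹_›
  let kk := ResidueField R
  let eqv := AlgEquiv.ofBijective _ (laurentHom_bijective e hT ht hinf)
  let ψk : cr G →ₐ[R] LaurentPolynomial kk := (laurentHom R (LaurentPolynomial kk) (unitT kk)).comp eqv.symm.toAlgHom
  let M : Spec (CommRingCat.of (LaurentPolynomial kk)) ⟶ (sf G).left :=
    pullback.lift (pp ψk).left (Spec.map (CommRingCat.ofHom (algebraMap kk (LaurentPolynomial kk)))) (by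
      rw [Over.w (pp ψk)]
      show Spec.map _ = _
      rw [← Spec.map_comp, ← CommRingCat.ofHom_comp]
      congr 2)
  have hpts : ∀ x : 𝟙_ (Over (Spec (CommRingCat.of kk))) ⟶ sf G, NeronSplitP.pt (sf G) x ∈ Set.range M := by
    intro x
    have hu : IsUnit (pa (up x) t) := (isUnit_coord e hT ht).map _
    let q : LaurentPolynomial kk →ₐ[kk] kk := ev hu.unit
    have h1 : pa (up x) = (q.restrictScalars R).comp ψk := by
      apply AlgHom.ext
      intro a
      obtain ⟨g, rfl⟩ := eqv.surjective a
      show pa (up x) (laurentHom R (cr G) _ g) = q (laurentHom R _ (unitT kk) (eqv.symm (eqv g)))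
      rw [AlgEquiv.symm_apply_apply]
      induction g using LaurentPolynomial.induction_on' with
      | add g g' hg hg' => simp only [map_add, hg, hg']
      | C_mul_T n c =>
        rw [laurentHom_C_mul_T, laurentHom_C_mul_T, map_mul, map_mul, AlgHom.commutes, unitT_zpow]
        congr 1
        · exact ((q.restrictScalars R).commutes c).symm
        · rw [← _root_.one_mul (LaurentPolynomial.T n : LaurentPolynomial kk), ← map_one LaurentPolynomial.C, ev_C_mul_T,
            _root_.one_mul, show hu.unit = Units.map (pa (up x)).toRingHom.toMonoidHom (isUnit_coord e hT ht).unit from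
              Units.ext rfl, ← map_zpow]
          rfl
    have h2 : spR (q.restrictScalars R) ≫ pp ψk = up x := pa_injective (by rw [pa_comp, pa_pp, h1])
    have h3 : (up x).left = x.left ≫ pullback.fst G.hom (Spec.map (CommRingCat.ofHom (residue R))) := by
      simp [up, c0, Adjunction.homEquiv_counit]
    have h4 : Spec.map (CommRingCat.ofHom q.toRingHom) ≫ M = x.left := by
      apply pullback.hom_ext
      · rw [Category.assoc, pullback.lift_fst, ← h3, ← h2]
        rfl
      · rw [Category.assoc, pullback.lift_snd, ← Spec.map_comp, ← CommRingCat.ofHom_comp]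
        refine Eq.trans ?_ (Over.w x).symm
        show Spec.map _ = 𝟙 (Spec (CommRingCat.of kk))
        rw [← Spec.map_id]
        congr 1
        ext c
        exact q.commutes c
    refine ⟨(Spec.map (CommRingCat.ofHom q.toRingHom)) (closedPoint kk), ?_⟩
    rw [← Scheme.Hom.comp_apply, h4]
  have hd : closure (Set.range M) = Set.univ := by
    by_contra hne
    obtain ⟨x, hx⟩ := NeronSplitP.exists_pt_mem (sf G) (Z := (closure (Set.range M))ᶜ)
      (Set.nonempty_compl.2 hne) isClosed_closure.isOpen_compl.isLocallyClosed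
    exact hx (subset_closure (hpts x))
  rw [connectedSpace_iff_univ, ← hd]
  refine IsConnected.closure ?_
  rw [← Set.image_univ]
  have : IsDomain (LaurentPolynomial kk) := inferInstance
  exact (isConnected_univ (α := PrimeSpectrum (LaurentPolynomial kk))).image _ M.continuous.continuousOn

/-- The model is the multiplicative group. -/
theorem exists_iso [Smooth G.hom] [IsAffineHom G.hom]
    (hinf : (Set.range fun x : 𝟙_ (Over (Spec (CommRingCat.of (ResidueField R)))) ⟶ sf G => pa (up x) t).Infinite) :
    ∃ e' : G ≅ Red.Gm (Spec (CommRingCat.of R)), IsMonHom e'.hom := by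
  obtain ⟨e', he'⟩ := RedPts.gm_surjective (S := Spec (CommRingCat.of R)) (X := G) (c := t) (isUnit_coord e hT ht)
  have hmul : μ[G] ≫ e' = (fst G G ≫ e') * (snd G G ≫ e') := by
    apply RedPts.gm_injective
    rw [RedPts.gm_mul, RedPts.gm_comp, RedPts.gm_comp, RedPts.gm_comp, he']
    have : Smooth (G ⊗ G).hom := by
      show Smooth (pullback.fst G.hom G.hom ≫ G.hom)
      exact MorphismProperty.comp_mem @Smooth _ _ (MorphismProperty.pullback_fst (P := @Smooth) _ _ ‹_›) ‹_›
    have : IsAffine (G ⊗ G).left := inferInstanceAs (IsAffine (pullback G.hom G.hom))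
    have := smooth_cr (G ⊗ G)
    let s : specR (R := R) (cr (G ⊗ G)) ⟶ G ⊗ G := pp (AlgHom.id R _)
    have hs : ∀ a, pa s a = a := fun a => AlgHom.congr_fun (pa_pp (AlgHom.id R (cr (G ⊗ G)))) a
    have h := coord_mul_flat e hT ht (s ≫ fst G G) (s ≫ snd G G)
    rw [Hom.mul_def, ← comp_lift, lift_fst_snd, Category.comp_id, pa_then, pa_then, pa_then, hs, hs, hs] at h
    exact h
  have : IsMonHom e' := by
    have hm : μ[G] ≫ e' = (e' ⊗ₘ e') ≫ μ[Red.Gm (Spec (CommRingCat.of R))] := by
      rw [hmul, Hom.mul_def, ← tensorHom_fst e' e', ← tensorHom_snd e' e', ← comp_lift_assoc, lift_fst_snd, Category.id_comp]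
    refine ⟨?_, hm⟩
    apply RedPts.gm_injective
    have h1 : (η[G] ≫ e') * (η[G] ≫ e') = η[G] ≫ e' := by
      rw [Hom.mul_def, show lift (η[G] ≫ e') (η[G] ≫ e') = lift η[G] η[G] ≫ (e' ⊗ₘ e') by simp, Category.assoc, ← hm,
        ← Category.assoc, ← Hom.mul_def, show (η[G] : 𝟙_ _ ⟶ G) = 1 by rw [Hom.one_def, toUnit_unique (toUnit _) (𝟙 _), Category.id_comp],
        _root_.one_mul]
    rw [show (η[Red.Gm (Spec (CommRingCat.of R))] : 𝟙_ _ ⟶ _) = 1 by
      rw [Hom.one_def, toUnit_unique (toUnit _) (𝟙 _), Category.id_comp]]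
    have h2 : ∀ a : 𝟙_ (Over (Spec (CommRingCat.of R))) ⟶ Red.Gm (Spec (CommRingCat.of R)), a * a = a → Red.gmFn a = 1 :=
      fun a ha => by
        have h3 := (RedPts.gm_mul a a).symm.trans (congrArg Red.gmFn ha)
        exact (RedPts.gm_isUnit a).mul_left_cancel (h3.trans (_root_.mul_one _).symm)
    exact (h2 _ h1).trans (h2 _ (_root_.one_mul _)).symm
  let Gm := Red.Gm (Spec (CommRingCat.of R))
  haveI : IsAffine (RedPts.specA (RedPts.monA.{u} ℤ)).left := inferInstanceAs (IsAffine (Spec _))
  haveI : IsAffine Gm.left := inferInstanceAs (IsAffine (pullback (RedPts.specA (RedPts.monA.{u} ℤ)).hom (RedPts.toZ _)))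
  let eqv := AlgEquiv.ofBijective _ (laurentHom_bijective e hT ht hinf)
  have hu := RedPts.gm_isUnit (𝟙 Gm)
  let ψ : cr G →ₐ[R] cr Gm := (laurentHom R (cr Gm) hu.unit).comp eqv.symm.toAlgHom
  have hψ : ψ t = Red.gmFn (𝟙 Gm) := by
    have hsymm : eqv.symm t = LaurentPolynomial.T 1 := by
      rw [AlgEquiv.symm_apply_eq]
      show t = laurentHom R (cr G) _ (LaurentPolynomial.T 1)
      rw [laurentHom_T]
      rfl
    show laurentHom R (cr Gm) hu.unit (eqv.symm t) = _
    rw [hsymm, laurentHom_T]
    rfl
  let s : specR (R := R) (cr Gm) ⟶ Gm := pp (AlgHom.id R _)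
  have : IsIso s.left := by
    show IsIso (Spec.map (CommRingCat.ofHom (RingHom.id (cr Gm))) ≫ Gm.left.isoSpec.inv)
    rw [CommRingCat.ofHom_id, Spec.map_id, Category.id_comp]
    infer_instance
  haveI : IsIso s := by
    have : IsIso ((Over.forget _).map s) := ‹IsIso s.left›
    exact isIso_of_reflects_iso s (Over.forget _)
  let i : Gm ⟶ G := CategoryTheory.inv s ≫ pp ψ
  have hi : ∀ a, i.left.appTop a = ψ a := fun a => by
    have h1 : pa (s ≫ i) a = ψ a := by
      rw [show s ≫ i = pp ψ by rw [← Category.assoc, IsIso.hom_inv_id, Category.id_comp], pa_pp]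
    rwa [pa_then, show ∀ b, pa s b = b from fun b => AlgHom.congr_fun (pa_pp (AlgHom.id R (cr Gm))) b] at h1
  have h1 : i ≫ e' = 𝟙 Gm := by
    apply RedPts.gm_injective
    rw [RedPts.gm_comp, he', hi, hψ]
  have h2 : e' ≫ i = 𝟙 G := by
    let sG : specR (R := R) (cr G) ⟶ G := pp (AlgHom.id R _)
    have hsG : ∀ a, pa sG a = a := fun a => AlgHom.congr_fun (pa_pp (AlgHom.id R (cr G))) a
    refine Over.OverMorphism.ext (ext_of_isAffine ?_)
    ext a
    show (e' ≫ i).left.appTop a = a
    obtain ⟨g, rfl⟩ := eqv.surjective a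
    rw [← hsG ((e' ≫ i).left.appTop (eqv g)), ← pa_then]
    conv_rhs => rw [← hsG (eqv g)]
    induction g using LaurentPolynomial.induction_on' with
    | add g g' hg hg' => simp only [map_add, hg, hg']
    | C_mul_T n c =>
      show pa (sG ≫ e' ≫ i) (laurentHom R (cr G) _ _) = pa sG (laurentHom R (cr G) _ _)
      rw [laurentHom_C_mul_T, map_mul, map_mul, AlgHom.commutes, AlgHom.commutes]
      congr 1
      have hh : Units.map (pa (sG ≫ e' ≫ i)).toRingHom.toMonoidHom (isUnit_coord e hT ht).unit =
          Units.map (pa sG).toRingHom.toMonoidHom (isUnit_coord e hT ht).unit := Units.ext (by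
        show pa (sG ≫ e' ≫ i) t = pa sG t
        rw [← Category.assoc, pa_then, hi, hψ, pa_then, ← RedPts.gm_comp, Category.comp_id, he'])
      exact congrArg Units.val (((map_zpow _ _ n).trans (congrArg (· ^ n) hh)).trans (map_zpow _ _ n).symm)
  exact ⟨⟨e', i, h2, h1⟩, ‹IsMonHom e'›⟩

variable (j₀ : Red.Gm (Spec (CommRingCat.of (ResidueField R))) ⟶ sf G) [IsMonHom j₀] [IsOpenImmersion j₀.left]

include j₀ in
/-- On a torus the coordinate takes infinitely many values. -/
theorem infinite_range_of_torus :
    (Set.range fun x : 𝟙_ (Over (Spec (CommRingCat.of (ResidueField R)))) ⟶ sf G => pa (up x) t).Infinite := by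
  intro hfin
  let Pm := 𝟙_ (Over (Spec (CommRingCat.of (ResidueField R)))) ⟶ Red.Gm (Spec (CommRingCat.of (ResidueField R)))
  letI : Group Pm := Hom.group
  let i := (Scheme.ΓSpecIso (CommRingCat.of (ResidueField R))).commRingCatIsoToRingEquiv
  let val : Pm → ResidueField R := fun b => i (Red.gmFn b)
  have hval_mul : ∀ a b, val (a * b) = val a * val b := fun a b => by
    show i _ = i _ * i _
    rw [RedPts.gm_mul, map_mul]
  have hval_inj : Function.Injective val := fun a b h => RedPts.gm_injective (i.injective h)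
  have hval_surj : ∀ c : ResidueField R, c ≠ 0 → ∃ b, val b = c := fun c hc => by
    obtain ⟨b, hb⟩ := RedPts.gm_surjective (S := Spec (CommRingCat.of (ResidueField R)))
      (X := 𝟙_ (Over (Spec (CommRingCat.of (ResidueField R))))) (c := i.symm c) ((isUnit_iff_ne_zero.2 hc).map i.symm)
    exact ⟨b, by show i _ = c; rw [hb, RingEquiv.apply_symm_apply]⟩
  have hval_pow : ∀ (b : Pm) (n : ℕ), val (b ^ n) = val b ^ n := fun b n => by
    induction n with
    | zero =>
      rw [pow_zero, pow_zero]
      have h := (congrArg val (_root_.one_mul (1 : Pm))).symm.trans (hval_mul 1 1)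
      have hne : val 1 ≠ 0 := ((RedPts.gm_isUnit (1 : Pm)).map i).ne_zero
      exact mul_left_cancel₀ hne (h.symm.trans (_root_.mul_one _).symm)
    | succ n ih => rw [pow_succ, pow_succ, hval_mul, ih]
  let χ : Pm →* (ResidueField R)ˣ := MonoidHom.toHomUnits
    { toFun := fun b => pa (up (b ≫ j₀)) t
      map_one' := by rw [MonObj.one_comp, chi_one e hT ht]
      map_mul' := fun a b => by rw [MonObj.mul_comp, chi_mul e hT ht] }
  have : Finite χ.range := by
    refine Set.Finite.to_subtype (Set.Finite.of_finite_image (f := Units.val) (hfin.subset ?_) Units.val_injective.injOn)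
    rintro _ ⟨_, ⟨b, rfl⟩, rfl⟩
    exact ⟨b ≫ j₀, rfl⟩
  have h1 : ∀ b, pa (up (b ≫ j₀)) t = 1 := fun b => by
    have hne : val b ≠ 0 := ((RedPts.gm_isUnit b).map i).ne_zero
    obtain ⟨z, hz⟩ := IsAlgClosed.exists_pow_nat_eq (val b) (Nat.card_pos (α := χ.range))
    obtain ⟨b', hb'⟩ := hval_surj z (fun h => hne (by rw [← hz, h, zero_pow (Nat.card_pos (α := χ.range)).ne']))
    have hbb : b' ^ Nat.card χ.range = b := hval_inj (by rw [hval_pow, hb', hz])
    have hp := congrArg (fun z : χ.range => ((z : (ResidueField R)ˣ) : ResidueField R))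
      (pow_card_eq_one' (x := (⟨χ b', b', rfl⟩ : χ.range)))
    simp only [SubmonoidClass.coe_pow, ← map_pow, hbb, OneMemClass.coe_one, Units.val_one] at hp
    exact hp
  have hmono : Function.Injective fun b : Pm => b ≫ j₀ := fun a b h =>
    Over.OverMorphism.ext ((cancel_mono j₀.left).1 (congrArg Over.Hom.left h))
  obtain ⟨p, hp⟩ := CharP.exists (ResidueField R)
  rcases CharP.char_is_prime_or_zero (ResidueField R) p with hpr | rfl
  · obtain ⟨c, hc⟩ := exists_pPow e hT ht p
    obtain ⟨z, hz0, hz1⟩ : ∃ z : ResidueField R, z ≠ 0 ∧ z ≠ 1 := by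
      obtain ⟨z, hz⟩ := (Set.toFinite ({0, 1} : Set (ResidueField R))).infinite_compl.nonempty
      exact ⟨z, fun h => hz (by simp [h]), fun h => hz (by simp [h])⟩
    obtain ⟨b, hb⟩ := hval_surj z hz0
    have h2 : b ^ p ^ c = 1 := hmono (by
      show (b ^ p ^ c) ≫ j₀ = 1 ≫ j₀
      rw [MonObj.pow_comp, MonObj.one_comp]
      exact hc _ (h1 b))
    have h3 : z ^ p ^ c = 1 ^ p ^ c := by
      rw [← hb, ← hval_pow, h2, ← pow_zero b, hval_pow, pow_zero, one_pow]
    haveI := Fact.mk hpr
    haveI : ExpChar (ResidueField R) p := ExpChar.prime hpr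
    exact hz1 (iterateFrobenius_inj (ResidueField R) p c (by simpa [iterateFrobenius_def] using h3))
  · haveI := CharP.charP_to_charZero (ResidueField R)
    obtain ⟨b, hb⟩ := hval_surj (-1) (by norm_num)
    have h2 : b ^ 2 = 1 := hval_inj (by rw [hval_pow, hb, ← pow_zero b, hval_pow, pow_zero, neg_one_sq])
    have h3 : b = 1 := hmono (by
      show b ≫ j₀ = 1 ≫ j₀
      rw [MonObj.one_comp]
      exact eq_one_of_pow_eq_one e hT ht _ (h1 b) two_pos (by rw [← MonObj.pow_comp b 2 j₀, h2, MonObj.one_comp]))
    rw [h3, ← pow_zero b, hval_pow, pow_zero] at hb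
    norm_num at hb

end Coord

end Groth.Agent.GmModel
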