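import Groth.Agent.RedPts.Basic
import Groth.Prelude.Def_AlgGrp
import Mathlib.Algebra.Polynomial.Laurent
import Mathlib.RingTheory.Smooth.AdicCompletion
import Mathlib.RingTheory.DiscreteValuationRing.Basic
import Mathlib.RingTheory.RingHom.Smooth
import Mathlib.AlgebraicGeometry.Morphisms.Smooth
import Mathlib.AlgebraicGeometry.AffineScheme

/-!
# Points of an affine model of the multiplicative group
-/

set_option autoImplicit false
set_option backward.isDefEq.respectTransparency.types false

universe u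

open CategoryTheory MonoidalCategory CartesianMonoidalCategory MonObj GrpObj AlgebraicGeometry Limits IsLocalRing

noncomputable section

namespace Groth.Agent.GmModel

variable {R : Type u} [CommRing R]

/-- An algebra as a scheme over the base. -/
abbrev specR (B : Type u) [CommRing B] [Algebra R B] : Over (Spec (CommRingCat.of R)) :=
  Over.mk (Spec.map (CommRingCat.ofHom (algebraMap R B)))

section Sp

variable {B B' : Type u} [CommRing B] [Algebra R B] [CommRing B'] [Algebra R B']

/-- The morphism of an algebra map. -/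
def spR (φ : B →ₐ[R] B') : specR (R := R) B' ⟶ specR B :=
  Over.homMk (Spec.map (CommRingCat.ofHom φ.toRingHom)) (by
    show Spec.map (CommRingCat.ofHom φ.toRingHom) ≫ Spec.map _ = Spec.map _
    rw [← Spec.map_comp]
    exact congrArg Spec.map (CommRingCat.hom_ext φ.comp_algebraMap))

end Sp

variable (G : Over (Spec (CommRingCat.of R)))

/-- The global functions. -/
abbrev cr : Type u := Γ(G.left, ⊤)

instance crAlg : Algebra R (cr G) := ((Scheme.ΓSpecIso (CommRingCat.of R)).inv ≫ G.hom.appTop).hom.toAlgebra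

variable {G} {B B' : Type u} [CommRing B] [Algebra R B] [CommRing B'] [Algebra R B']

/-- The algebra map of a point. -/
def pa (x : specR (R := R) B ⟶ G) : cr G →ₐ[R] B where
  toRingHom := (x.left.appTop ≫ (Scheme.ΓSpecIso (CommRingCat.of B)).hom).hom
  commutes' r := by
    have h : G.hom.appTop ≫ x.left.appTop = (Spec.map (CommRingCat.ofHom (algebraMap R B))).appTop := by
      rw [← Scheme.Hom.comp_appTop, Over.w x]; rfl
    have h2 : (Scheme.ΓSpecIso (CommRingCat.of R)).inv ≫ G.hom.appTop ≫ x.left.appTop ≫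
        (Scheme.ΓSpecIso (CommRingCat.of B)).hom = CommRingCat.ofHom (algebraMap R B) := by
      rw [← Category.assoc G.hom.appTop, h, Scheme.ΓSpecIso_naturality, Iso.inv_hom_id_assoc]
    exact RingHom.congr_fun (congrArg CommRingCat.Hom.hom h2) r

lemma pa_apply (x : specR (R := R) B ⟶ G) (a : cr G) :
    pa x a = (Scheme.ΓSpecIso (CommRingCat.of B)).hom (x.left.appTop a) := rfl

lemma pa_comp (φ : B →ₐ[R] B') (x : specR (R := R) B ⟶ G) : pa (spR φ ≫ x) = φ.comp (pa x) :=
  AlgHom.ext fun a => congr($(Scheme.ΓSpecIso_naturality (CommRingCat.ofHom φ.toRingHom)) (x.left.appTop a))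

variable [IsAffine G.left]

lemma pa_injective : Function.Injective (pa (B := B) (G := G)) := fun x y h => by
  refine Over.OverMorphism.ext (ext_of_isAffine ?_)
  ext a
  exact (Scheme.ΓSpecIso (CommRingCat.of B)).commRingCatIsoToRingEquiv.injective (AlgHom.congr_fun h a)

/-- The point of an algebra map. -/
def pp (φ : cr G →ₐ[R] B) : specR (R := R) B ⟶ G :=
  Over.homMk (Spec.map (CommRingCat.ofHom φ.toRingHom) ≫ G.left.isoSpec.inv) (by
    have h : G.left.isoSpec.inv ≫ G.hom =
        Spec.map ((Scheme.ΓSpecIso (CommRingCat.of R)).inv ≫ G.hom.appTop) := by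
      rw [Iso.inv_comp_eq, Spec.map_comp, Scheme.isoSpec_hom, ← Scheme.toSpecΓ_naturality_assoc,
        toSpecΓ_SpecMap_ΓSpecIso_inv, Category.comp_id]
    show (Spec.map _ ≫ _) ≫ G.hom = Spec.map _
    rw [Category.assoc, h, ← Spec.map_comp]
    exact congrArg Spec.map (CommRingCat.hom_ext φ.comp_algebraMap))

lemma pa_pp (φ : cr G →ₐ[R] B) : pa (pp φ) = φ := by
  apply AlgHom.coe_ringHom_injective
  have h1 : G.left.isoSpec.inv.appTop = (Scheme.ΓSpecIso (CommRingCat.of (cr G))).inv := by
    have := congrArg Scheme.Hom.appTop G.left.isoSpec.hom_inv_id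
    rw [Scheme.Hom.comp_appTop, Scheme.isoSpec_hom, Scheme.toSpecΓ_appTop, Scheme.Hom.id_appTop] at this
    exact (Iso.comp_hom_eq_id _).1 this
  show ((Spec.map (CommRingCat.ofHom φ.toRingHom) ≫ G.left.isoSpec.inv).appTop ≫ _).hom = _
  rw [Scheme.Hom.comp_appTop, h1, Category.assoc, Scheme.ΓSpecIso_naturality, Iso.inv_hom_id_assoc]
  rfl

/-! ### The generic fibre -/

section Generic

variable {K : Type u} [Field K] [Algebra R K]

variable {B : Type u} [CommRing B] [Algebra K B] [Algebra R B] [IsScalarTower R K B]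
variable {B' : Type u} [CommRing B'] [Algebra K B'] [Algebra R B'] [IsScalarTower R K B']

/-- An algebra over the generic fibre. -/
abbrev specK (B : Type u) [CommRing B] [Algebra K B] : Over (Spec (CommRingCat.of K)) :=
  Over.mk (Spec.map (CommRingCat.ofHom (algebraMap K B)))

/-- The two ways to see a `K`-algebra over `R`. -/
def cB (B : Type u) [CommRing B] [Algebra K B] [Algebra R B] [IsScalarTower R K B] :
    specR (R := R) B ≅ (Over.map (Spec.map (CommRingCat.ofHom (algebraMap R K)))).obj (specK B) :=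
  Over.isoMk (Iso.refl _) (by
    show 𝟙 _ ≫ Spec.map _ ≫ Spec.map _ = Spec.map _
    rw [Category.id_comp, ← Spec.map_comp, ← CommRingCat.ofHom_comp, ← IsScalarTower.algebraMap_eq])

variable [GrpObj G] (e : Red.bc (Spec.map (CommRingCat.ofHom (algebraMap R K))) G ≅ Red.Gm (Spec (CommRingCat.of K))) [IsMonHom e.hom]

/-- The coordinate of a point of the generic fibre. -/
def U (x : specR (R := R) B ⟶ G) : B :=
  (Scheme.ΓSpecIso (CommRingCat.of B)).hom
    (Red.gmFn ((Over.mapPullbackAdj (Spec.map (CommRingCat.ofHom (algebraMap R K)))).homEquiv (specK B) G ((cB B).inv ≫ x) ≫ e.hom))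

lemma U_isUnit (x : specR (R := R) B ⟶ G) : IsUnit (U e x) := by
  apply IsUnit.map
  exact RedPts.gm_isUnit _

lemma U_injective : Function.Injective (U e (B := B)) := fun x y h =>
  (cancel_epi (cB B).inv).1 (((Over.mapPullbackAdj (Spec.map (CommRingCat.ofHom (algebraMap R K)))).homEquiv (specK B) G).injective
    ((cancel_mono e.hom).1 (RedPts.gm_injective
      ((Scheme.ΓSpecIso (CommRingCat.of B)).commRingCatIsoToRingEquiv.injective h))))

lemma U_surjective {b : B} (hb : IsUnit b) : ∃ x : specR (R := R) B ⟶ G, U e x = b := by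
  obtain ⟨y, hy⟩ := RedPts.gm_surjective (S := Spec (CommRingCat.of K)) (X := specK B)
    (hb.map (Scheme.ΓSpecIso (CommRingCat.of B)).inv.hom)
  refine ⟨(cB B).hom ≫ ((Over.mapPullbackAdj (Spec.map (CommRingCat.ofHom (algebraMap R K)))).homEquiv (specK B) G).symm (y ≫ e.inv), ?_⟩
  rw [U, Iso.inv_hom_id_assoc, Equiv.apply_symm_apply, Category.assoc, e.inv_hom_id, Category.comp_id, hy]
  exact congr($((Scheme.ΓSpecIso (CommRingCat.of B)).inv_hom_id) b)

lemma U_mul (x y : specR (R := R) B ⟶ G) : U e (x * y) = U e x * U e y := by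
  have h1 : (Over.mapPullbackAdj (Spec.map (CommRingCat.ofHom (algebraMap R K)))).homEquiv (specK B) G ((cB B).inv ≫ (x * y)) =
      (Over.mapPullbackAdj (Spec.map (CommRingCat.ofHom (algebraMap R K)))).homEquiv (specK B) G ((cB B).inv ≫ x) *
        (Over.mapPullbackAdj (Spec.map (CommRingCat.ofHom (algebraMap R K)))).homEquiv (specK B) G ((cB B).inv ≫ y) := by
    rw [MonObj.comp_mul, Adjunction.homEquiv_unit, Functor.map_mul, MonObj.comp_mul,
      ← Adjunction.homEquiv_unit, ← Adjunction.homEquiv_unit]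
  have h2 := (congrArg (fun z => Red.gmFn (z ≫ e.hom)) h1).trans
    ((congrArg Red.gmFn (MonObj.mul_comp _ _ e.hom)).trans (RedPts.gm_mul _ _))
  show (Scheme.ΓSpecIso (CommRingCat.of B)).hom _ = _
  rw [h2, map_mul]
  rfl

lemma U_comp (φ : B →ₐ[K] B') (x : specR (R := R) B ⟶ G) : U e (spR (φ.restrictScalars R) ≫ x) = φ (U e x) := by
  let h : specK (K := K) B' ⟶ specK B := Over.homMk (Spec.map (CommRingCat.ofHom φ.toRingHom)) (by
    show Spec.map (CommRingCat.ofHom φ.toRingHom) ≫ Spec.map _ = Spec.map _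
    rw [← Spec.map_comp]
    exact congrArg Spec.map (CommRingCat.hom_ext φ.comp_algebraMap))
  have hc : (cB B').inv ≫ spR (φ.restrictScalars R) ≫ x = (Over.map (Spec.map (CommRingCat.ofHom (algebraMap R K)))).map h ≫ (cB B).inv ≫ x := by
    rw [← Category.assoc, ← Category.assoc]
    congr 1
  rw [U, hc, Adjunction.homEquiv_naturality_left, Category.assoc, RedPts.gm_comp]
  exact congr($(Scheme.ΓSpecIso_naturality (CommRingCat.ofHom φ.toRingHom)) _)

/-- The universal point. -/
theorem exists_univ : ∃ x : specR (R := R) (LaurentPolynomial K) ⟶ G, U e x = LaurentPolynomial.T 1 :=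
  U_surjective e (LaurentPolynomial.isUnit_T 1)

/-- Evaluation at a unit. -/
def ev (u : Kˣ) : LaurentPolynomial K →ₐ[K] K :=
  AddMonoidAlgebra.lift K K ℤ ((Units.coeHom K).comp (zpowersHom Kˣ u))

lemma ev_C_mul_T (u : Kˣ) (c : K) (n : ℤ) :
    ev u (LaurentPolynomial.C c * LaurentPolynomial.T n) = c * ((u ^ n : Kˣ) : K) := by
  rw [← LaurentPolynomial.single_eq_C_mul_T, ev, AddMonoidAlgebra.lift_single]
  simp

lemma ev_T (u : Kˣ) : ev u (LaurentPolynomial.T 1) = (u : K) := by
  have := ev_C_mul_T u 1 1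
  simpa using this

theorem pa_eq_ev {xT : specR (R := R) (LaurentPolynomial K) ⟶ G} (hT : U e xT = LaurentPolynomial.T 1)
    (x : specR (R := R) K ⟶ G) (u : Kˣ) (hu : U e x = (u : K)) :
    pa x = ((ev u).restrictScalars R).comp (pa xT) := by
  rw [← pa_comp]
  congr 1
  exact U_injective e (hu.trans ((U_comp e (ev u) xT).trans (by rw [hT, ev_T])).symm)

/-- The coordinate is a combination of the functions. -/
theorem T_mem_adjoin {xT : specR (R := R) (LaurentPolynomial K) ⟶ G} (hT : U e xT = LaurentPolynomial.T 1) :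
    LaurentPolynomial.T 1 ∈ Submodule.span K (Set.range (pa xT)) := by
  let S : Subalgebra K (LaurentPolynomial K) := Algebra.adjoin K (Set.range (pa xT))
  let φ : cr G →ₐ[R] S := AlgHom.codRestrict (pa xT) (S.restrictScalars R) fun a => Algebra.subset_adjoin ⟨a, rfl⟩
  have hx : spR (S.val.restrictScalars R) ≫ pp φ = xT := pa_injective (by
    rw [pa_comp, pa_pp]
    ext a
    rfl)
  have h : LaurentPolynomial.T 1 ∈ S := by
    have h1 := U_comp e S.val (pp φ)
    rw [hx, hT] at h1
    rw [h1]
    exact (U e (pp φ)).2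
  have h2 : Subalgebra.toSubmodule S = Submodule.span K (Set.range (pa xT)) := by
    rw [Algebra.adjoin_eq_span]
    congr 1
    refine le_antisymm ?_ Submonoid.subset_closure
    intro z hz
    exact ((Submonoid.closure_le (S := MonoidHom.mrange (pa xT).toRingHom.toMonoidHom)).2 fun _ h => h) hz
  exact h2 ▸ h

end Generic

end Groth.Agent.GmModel
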