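import Groth.Agent.GmModel.Integral
import Groth.Agent.GaGm.Quotient
import Groth.Agent.NeronSplitP.PPart
import Mathlib.GroupTheory.SpecificGroups.Cyclic
import Mathlib.RingTheory.IntegralDomain

/-!
# The special fibre of an affine smooth model of the multiplicative group
-/

set_option autoImplicit false
set_option backward.isDefEq.respectTransparency.types false

universe u

open CategoryTheory MonoidalCategory CartesianMonoidalCategory MonObj GrpObj AlgebraicGeometry Limits IsLocalRing TopologicalSpace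

noncomputable section

namespace Groth.Agent.GmModel

section Fibre

variable {R : Type u} [CommRing R] [IsLocalRing R] {G : Over (Spec (CommRingCat.of R))}

variable (G) in
/-- The special fibre. -/
abbrev sf : Over (Spec (CommRingCat.of (ResidueField R))) :=
  Red.bc (Spec.map (CommRingCat.ofHom (residue R))) G

/-- The residue field over the base. -/
def c0 : specR (R := R) (ResidueField R) ≅
    (Over.map (Spec.map (CommRingCat.ofHom (residue R)))).obj (𝟙_ (Over (Spec (CommRingCat.of (ResidueField R))))) :=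
  Over.isoMk (Iso.refl _) (by
    show 𝟙 _ ≫ 𝟙 _ ≫ Spec.map (CommRingCat.ofHom (residue R)) = Spec.map _
    rw [Category.id_comp, Category.id_comp]
    rfl)

/-- A special point as a point of the model. -/
def up (x : 𝟙_ (Over (Spec (CommRingCat.of (ResidueField R)))) ⟶ sf G) : specR (R := R) (ResidueField R) ⟶ G :=
  c0.hom ≫ ((Over.mapPullbackAdj (Spec.map (CommRingCat.ofHom (residue R)))).homEquiv _ G).symm x

lemma up_injective : Function.Injective (up (G := G)) := fun _ _ h =>
  ((Over.mapPullbackAdj _).homEquiv _ G).symm.injective ((cancel_epi _).1 h)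

lemma up_mul [GrpObj G] (x y : 𝟙_ (Over (Spec (CommRingCat.of (ResidueField R)))) ⟶ sf G) : up (x * y) = up x * up y := by
  rw [up, up, up, ← MonObj.comp_mul]
  congr 1
  apply ((Over.mapPullbackAdj (Spec.map (CommRingCat.ofHom (residue R)))).homEquiv _ G).injective
  rw [Equiv.apply_symm_apply, Adjunction.homEquiv_unit, Functor.map_mul, MonObj.comp_mul,
    ← Adjunction.homEquiv_unit, ← Adjunction.homEquiv_unit, Equiv.apply_symm_apply, Equiv.apply_symm_apply]

/-- The reduction of an integral point. -/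
def red (g : specR (R := R) R ⟶ G) : 𝟙_ (Over (Spec (CommRingCat.of (ResidueField R)))) ⟶ sf G :=
  (Over.mapPullbackAdj (Spec.map (CommRingCat.ofHom (residue R)))).homEquiv _ G
    (c0.inv ≫ spR (Algebra.ofId R (ResidueField R)) ≫ g)

lemma up_red (g : specR (R := R) R ⟶ G) : up (red g) = spR (Algebra.ofId R (ResidueField R)) ≫ g := by
  rw [up, red, Equiv.symm_apply_apply, Iso.hom_inv_id_assoc]

lemma pa_up_red (g : specR (R := R) R ⟶ G) (a : cr G) : pa (up (red g)) a = residue R (pa g a) :=
  (congrArg (fun x => pa x a) (up_red g)).trans (AlgHom.congr_fun (pa_comp (Algebra.ofId R (ResidueField R)) g) a)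

lemma red_mul [GrpObj G] (g h : specR (R := R) R ⟶ G) : red (g * h) = red g * red h :=
  up_injective (by rw [up_mul, up_red, up_red, up_red, MonObj.comp_mul])

lemma red_one [GrpObj G] : red (1 : specR (R := R) R ⟶ G) = 1 := by
  have h := red_mul (1 : specR (R := R) R ⟶ G) 1
  rw [_root_.mul_one] at h
  exact mul_eq_left.1 h.symm

lemma red_pow [GrpObj G] (g : specR (R := R) R ⟶ G) (n : ℕ) : red (g ^ n) = red g ^ n := by
  induction n with
  | zero => rw [pow_zero, pow_zero, red_one]
  | succ n ih => rw [pow_succ, pow_succ, red_mul, ih]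

variable [IsAffine G.left]

lemma red_surjective [IsAdicComplete (maximalIdeal R) R] [Algebra.Smooth R (cr G)] :
    Function.Surjective (red (G := G)) := by
  intro x
  obtain ⟨ψ, hψ⟩ := Algebra.FormallySmooth.exists_mkₐ_comp_eq_of_isAdicComplete (I := maximalIdeal R) (S := R)
    (A := cr G) (R := R) (pa (up x))
  exact ⟨pp ψ, up_injective (pa_injective (AlgHom.ext fun a => by
    rw [pa_up_red, pa_pp]; exact AlgHom.congr_fun hψ a))⟩

lemma red_eq_iff {g h : specR (R := R) R ⟶ G} :
    red g = red h ↔ ∀ a, residue R (pa g a) = residue R (pa h a) := by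
  refine ⟨fun e a => by rw [← pa_up_red, ← pa_up_red, e], fun e => up_injective (pa_injective (AlgHom.ext fun a => ?_))⟩
  rw [pa_up_red, pa_up_red, e]

end Fibre

lemma pow_residue_shift (k : Type u) [Field k] (F : ℕ → k) (n i : ℕ) : ((shift k) ^ n) F i = F (i + n) := by
  induction n generalizing F with
  | zero => rfl
  | succ n ih => rw [pow_succ, Module.End.mul_apply, ih]; rfl

open Polynomial in
/-- A periodic sequence with vanishing high differences is constant. -/
theorem periodic_const {k : Type u} [Field k] [CharZero k] (F : ℕ → k) {N : ℕ} (hN : 0 < N)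
    (hper : ∀ i, F (i + N) = F i) {L : ℕ} (hL : ((shift k - 1) ^ L) F = 0) : F 1 = F 0 := by
  let Q : k[X] := ∑ i ∈ Finset.range N, X ^ i
  have hQ : IsCoprime (X - Polynomial.C (1 : k)) Q := (irreducible_X_sub_C 1).coprime_iff_not_dvd.2 fun h => by
    rw [dvd_iff_isRoot, IsRoot, eval_finsetSum] at h
    simp at h
    omega
  obtain ⟨r, q, hrq⟩ := hQ.pow_left (m := L)
  rw [map_one] at hrq
  have he : (X - 1 : k[X]) = r * (X - 1) * (X - 1) ^ L + q * (X ^ N - 1) := by
    have hg : Q * (X - 1) = X ^ N - 1 := geom_sum_mul X N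
    linear_combination (-(X - 1)) * hrq + q * hg
  have h := congrArg (fun P : k[X] => (aeval (shift k)) P F 0) he
  simp only [map_sub, map_add, map_mul, map_pow, map_one, aeval_X, LinearMap.add_apply, Module.End.mul_apply, hL,
    map_zero, Pi.add_apply, Pi.zero_apply, LinearMap.sub_apply, Module.End.one_apply, pow_residue_shift] at h
  have h0 : ((shift k) ^ N) F = F := funext fun i => by rw [pow_residue_shift, hper]
  rw [h0, sub_self, Pi.zero_apply, _root_.add_zero, Pi.sub_apply] at h
  exact sub_eq_zero.1 h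

variable {R : Type u} [CommRing R] [IsDomain R] [IsDiscreteValuationRing R]
variable {K : Type u} [Field K] [Algebra R K] [IsFractionRing R K]
variable {G : Over (Spec (CommRingCat.of R))} [IsAffine G.left] [GrpObj G]
  (e : Red.bc (Spec.map (CommRingCat.ofHom (algebraMap R K))) G ≅ Red.Gm (Spec (CommRingCat.of K))) [IsMonHom e.hom]
variable [IsAdicComplete (maximalIdeal R) R] [Algebra.Smooth R (cr G)]

include e in
/-- The special points commute. -/
lemma sf_commute (x y : 𝟙_ (Over (Spec (CommRingCat.of (ResidueField R)))) ⟶ sf G) : x * y = y * x := by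
  obtain ⟨g, rfl⟩ := red_surjective x
  obtain ⟨h, rfl⟩ := red_surjective y
  rw [← red_mul, ← red_mul, commute e g h]

variable {xT : specR (R := R) (LaurentPolynomial K) ⟶ G} {t : cr G}
  (hT : U e xT = LaurentPolynomial.T 1) (ht : pa xT t = LaurentPolynomial.T 1)

include hT ht

lemma chi_mul (x y : 𝟙_ (Over (Spec (CommRingCat.of (ResidueField R)))) ⟶ sf G) :
    pa (up (x * y)) t = pa (up x) t * pa (up y) t := by
  obtain ⟨g, rfl⟩ := red_surjective x
  obtain ⟨h, rfl⟩ := red_surjective y
  rw [← red_mul, pa_up_red, pa_up_red, pa_up_red, coord_mul e hT ht, map_mul]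

lemma chi_one : pa (up (1 : 𝟙_ (Over (Spec (CommRingCat.of (ResidueField R)))) ⟶ sf G)) t = 1 := by
  rw [← red_one, pa_up_red, coord_one e hT ht, map_one]

lemma chi_pow (x : 𝟙_ (Over (Spec (CommRingCat.of (ResidueField R)))) ⟶ sf G) (n : ℕ) :
    pa (up (x ^ n)) t = pa (up x) t ^ n := by
  induction n with
  | zero => rw [pow_zero, pow_zero, chi_one e hT ht]
  | succ n ih => rw [pow_succ, pow_succ, chi_mul e hT ht, ih]

/-- Points congruent to one to high order reduce to one. -/
theorem exists_congr {ϖ : R} (hϖ : Irreducible ϖ) :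
    ∃ c : ℕ, ∀ g : specR (R := R) R ⟶ G, ϖ ^ c ∣ pa g t - 1 → red g = 1 := by
  classical
  obtain ⟨S, hS⟩ := Algebra.FiniteType.out (R := R) (A := cr G)
  have key : ∀ a : cr G, ∃ c : ℕ, ∀ g : specR (R := R) R ⟶ G, ϖ ^ c ∣ pa g t - 1 → ϖ ∣ pa g a - pa 1 a := by
    intro a
    obtain ⟨d, hd, hb⟩ := exists_sub_bound (R := R) (pa xT a)
    obtain ⟨M, v, rfl⟩ := IsDiscreteValuationRing.eq_unit_mul_pow_irreducible hd hϖ
    refine ⟨M + 1, fun g hg => ?_⟩
    obtain ⟨u, hu⟩ := coord_isUnit e hT ht g
    obtain ⟨r, hr⟩ := hb u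
    obtain ⟨w, hw⟩ := hg
    rw [← pa_coord e hT ht g a u hu, ← map_one (Units.map (algebraMap R K).toMonoidHom),
      ← pa_coord e hT ht 1 a 1 (by rw [Units.val_one, coord_one e hT ht]), ← map_sub, ← map_mul] at hr
    have h2 := IsFractionRing.injective R K hr
    rw [hu, hw] at h2
    refine ⟨(v⁻¹ : Rˣ) * w * r, mul_left_cancel₀ (pow_ne_zero M hϖ.ne_zero) ?_⟩
    have hv : ((v⁻¹ : Rˣ) : R) * v = 1 := Units.inv_mul v
    linear_combination ((v⁻¹ : Rˣ) : R) * h2 - ϖ ^ M * (pa g a - pa 1 a) * hv
  choose c hc using key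
  refine ⟨S.sup c, fun g hg => ?_⟩
  have h1 : (Algebra.ofId R (ResidueField R)).comp (pa g) = (Algebra.ofId R (ResidueField R)).comp (pa 1) := by
    refine AlgHom.ext_of_adjoin_eq_top hS fun a ha => ?_
    show residue R (pa g a) = residue R (pa 1 a)
    rw [← sub_eq_zero, ← map_sub, residue_eq_zero_iff, hϖ.maximalIdeal_eq, Ideal.mem_span_singleton]
    exact hc a g ((pow_dvd_pow ϖ (Finset.le_sup ha)).trans hg)
  rw [← red_one, red_eq_iff]
  exact fun a => AlgHom.congr_fun h1 a

/-- In residue characteristic `p` the kernel of the coordinate is killed by a power of `p`. -/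
theorem exists_pPow (p : ℕ) [CharP (ResidueField R) p] :
    ∃ c : ℕ, ∀ x : 𝟙_ (Over (Spec (CommRingCat.of (ResidueField R)))) ⟶ sf G, pa (up x) t = 1 → x ^ (p ^ c) = 1 := by
  obtain ⟨ϖ, hϖ⟩ := IsDiscreteValuationRing.exists_irreducible R
  obtain ⟨c, hc⟩ := exists_congr e hT ht hϖ
  refine ⟨c, fun x hx => ?_⟩
  obtain ⟨g, rfl⟩ := red_surjective x
  rw [← red_pow]
  refine hc _ (dvd_trans (pow_dvd_pow ϖ c.le_succ) ?_)
  rw [coord_pow e hT ht]
  rw [pa_up_red, ← sub_eq_zero, ← map_one (residue R), ← map_sub, residue_eq_zero_iff, hϖ.maximalIdeal_eq,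
    Ideal.mem_span_singleton] at hx
  have : ∀ j : ℕ, ϖ ^ (j + 1) ∣ pa g t ^ (p ^ j) - 1 := by
    intro j
    induction j with
    | zero => simpa using hx
    | succ j ih =>
      have h1 : ϖ ∣ ∑ i ∈ Finset.range p, (pa g t ^ (p ^ j)) ^ i := by
        rw [← Ideal.mem_span_singleton, ← hϖ.maximalIdeal_eq, ← residue_eq_zero_iff, map_sum]
        have hres : residue R (pa g t ^ (p ^ j)) = 1 := by
          rw [← sub_eq_zero, ← map_one (residue R), ← map_sub, residue_eq_zero_iff, hϖ.maximalIdeal_eq,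
            Ideal.mem_span_singleton]
          exact (dvd_pow_self ϖ j.succ_ne_zero).trans ih
        simp [hres]
      have h2 := mul_dvd_mul h1 ih
      rw [geom_sum_mul, ← pow_mul, ← pow_succ, ← pow_succ'] at h2
      exact h2
  exact this c

/-- In residue characteristic zero the kernel of the coordinate is torsion-free. -/
theorem eq_one_of_pow_eq_one [CharZero (ResidueField R)]
    (x : 𝟙_ (Over (Spec (CommRingCat.of (ResidueField R)))) ⟶ sf G) (hx : pa (up x) t = 1) {N : ℕ} (hN : 0 < N)
    (hxN : x ^ N = 1) : x = 1 := by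
  obtain ⟨ϖ, hϖ⟩ := IsDiscreteValuationRing.exists_irreducible R
  obtain ⟨g, rfl⟩ := red_surjective x
  rw [← red_one, red_eq_iff]
  intro a
  obtain ⟨u, hu⟩ := coord_isUnit e hT ht g
  rw [pa_up_red, ← hu, ← sub_eq_zero, ← map_one (residue R), ← map_sub, residue_eq_zero_iff, hϖ.maximalIdeal_eq,
    Ideal.mem_span_singleton] at hx
  obtain ⟨M, hM⟩ := exists_diff_bound (R := R) hϖ (pa xT a)
  let FR : ℕ → R := fun i => pa (g ^ i) a
  have hFR : (algebraMap R K) ∘ FR = fun i => ev (Units.map (algebraMap R K).toMonoidHom (u ^ i)) (pa xT a) :=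
    funext fun i => pa_coord e hT ht (g ^ i) a (u ^ i) (by rw [Units.val_pow_eq_pow_val, hu, coord_pow e hT ht])
  have h := periodic_const ((residue R) ∘ FR) hN (fun i => red_eq_iff.1 (by rw [red_pow, red_pow, pow_add, hxN, _root_.mul_one]) a)
    (L := M + 1) (funext fun s => by
      rw [shift_map, Pi.zero_apply]
      obtain ⟨r, hr⟩ := hM M le_rfl u hx s
      rw [← hFR, shift_map] at hr
      rw [IsFractionRing.injective R K hr, residue_eq_zero_iff, hϖ.maximalIdeal_eq, Ideal.mem_span_singleton]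
      exact dvd_mul_right _ _)
  simpa [FR] using h

omit e hT ht

/-! ### The unit component -/

section Comp

variable (j₀ : Red.Ga (Spec (CommRingCat.of (ResidueField R))) ⟶ sf G) [IsMonHom j₀] [IsAlgClosed (ResidueField R)]

/-- The value of a function at a special point. -/
lemma pa_up_eq (x : 𝟙_ (Over (Spec (CommRingCat.of (ResidueField R)))) ⟶ sf G) (a : cr G) :
    pa (up x) a = (Scheme.ΓSpecIso (CommRingCat.of (ResidueField R))).hom
      (x.left.appTop ((pullback.fst G.hom (Spec.map (CommRingCat.ofHom (residue R)))).appTop a)) := by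
  have h : (up x).left = x.left ≫ pullback.fst G.hom (Spec.map (CommRingCat.ofHom (residue R))) := by
    simp [up, c0, Adjunction.homEquiv_counit]
  show (Scheme.ΓSpecIso _).hom ((up x).left.appTop a) = _
  rw [h]
  rfl

include e hT ht in
/-- The coordinate is trivial on the additive group. -/
theorem chi_j (b : 𝟙_ (Over (Spec (CommRingCat.of (ResidueField R)))) ⟶ Red.Ga (Spec (CommRingCat.of (ResidueField R)))) :
    pa (up (b ≫ j₀)) t = 1 := by
  let kk := ResidueField R
  let w := (GaGm.ofA (K := kk) ≫ j₀).left.appTop ((pullback.fst G.hom (Spec.map (CommRingCat.ofHom (residue R)))).appTop t)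
  let h : Polynomial kk := (Scheme.ΓSpecIso (CommRingCat.of (Polynomial kk))).hom w
  have hval : ∀ (b' : 𝟙_ (Over (Spec (CommRingCat.of kk))) ⟶ GaGm.specK (K := kk) (Polynomial kk))
      (ψ : Polynomial kk →+* kk), b'.left = Spec.map (CommRingCat.ofHom ψ) →
      pa (up ((b' ≫ GaGm.ofA) ≫ j₀)) t = ψ h := by
    intro b' ψ hb'
    rw [pa_up_eq, Category.assoc, Over.comp_left, Scheme.Hom.comp_appTop]
    show (Scheme.ΓSpecIso _).hom (b'.left.appTop w) = _
    rw [hb']
    exact congr($(Scheme.ΓSpecIso_naturality (CommRingCat.ofHom ψ)) w)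
  have hroot : ∀ c : kk, h.eval c ≠ 0 := by
    intro c h0
    let b' : 𝟙_ (Over (Spec (CommRingCat.of kk))) ⟶ GaGm.specK (K := kk) (Polynomial kk) :=
      Over.homMk (Spec.map (CommRingCat.ofHom (Polynomial.evalRingHom c))) (by
        show Spec.map _ ≫ Spec.map _ = 𝟙 _
        rw [← Spec.map_comp, ← CommRingCat.ofHom_comp, ← Spec.map_id]
        congr 1
        ext
        simp)
    have h1 := hval b' _ rfl
    rw [show Polynomial.evalRingHom c h = 0 from h0] at h1
    have h2 := chi_mul e hT ht ((b' ≫ GaGm.ofA) ≫ j₀) ((b' ≫ GaGm.ofA) ≫ j₀)⁻¹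
    rw [_root_.mul_inv_cancel, chi_one e hT ht, h1, zero_mul] at h2
    exact one_ne_zero h2
  obtain ⟨c₀, hc₀⟩ : ∃ c₀, h = Polynomial.C c₀ := by
    by_cases hd : h.degree = 0
    · exact ⟨_, Polynomial.eq_C_of_degree_eq_zero hd⟩
    · obtain ⟨c, hc⟩ := IsAlgClosed.exists_root h hd
      exact absurd hc (hroot c)
  have hall : ∀ b : 𝟙_ (Over (Spec (CommRingCat.of kk))) ⟶ Red.Ga (Spec (CommRingCat.of kk)), pa (up (b ≫ j₀)) t = c₀ := by
    intro b
    have hb : b = (b ≫ GaGm.toA) ≫ GaGm.ofA := by rw [Category.assoc, GaGm.toA_ofA, Category.comp_id]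
    let ψ := (Spec.preimage (R := CommRingCat.of (Polynomial kk)) (S := CommRingCat.of kk) (b ≫ GaGm.toA).left)
    have hψ : ψ.hom.comp (algebraMap kk (Polynomial kk)) = RingHom.id kk := by
      have h1 := Over.w (b ≫ GaGm.toA)
      change (b ≫ GaGm.toA).left ≫ Spec.map (CommRingCat.ofHom (algebraMap kk (Polynomial kk))) = 𝟙 (Spec (CommRingCat.of kk)) at h1
      rw [← Spec.map_preimage (b ≫ GaGm.toA).left, ← Spec.map_comp, ← Spec.map_id] at h1
      exact congrArg CommRingCat.Hom.hom (Spec.map_injective h1)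
    rw [hb, hval _ ψ.hom (Spec.map_preimage _).symm, hc₀]
    exact RingHom.congr_fun hψ c₀
  rw [hall b, ← hall 1, MonObj.one_comp, chi_one e hT ht]

variable [Smooth G.hom] [IsOpenImmersion j₀.left]

/-- The points of the unit component come from the additive group. -/
theorem exists_j_eq [IsAffineHom G.hom] [LocallyOfFiniteType G.hom]
    (x : 𝟙_ (Over (Spec (CommRingCat.of (ResidueField R)))) ⟶ sf G) (hx : x ∈ NeronSplitP.unitPoints (sf G)) :
    ∃ a, a ≫ j₀ = x := by
  have : Smooth (sf G).hom := MorphismProperty.pullback_snd (P := @Smooth) G.hom _ ‹_›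
  have : IsAffineHom (sf G).hom := MorphismProperty.pullback_snd (P := @IsAffineHom) G.hom _ ‹_›
  have : LocallyOfFiniteType (sf G).hom := MorphismProperty.pullback_snd (P := @LocallyOfFiniteType) G.hom _ ‹_›
  let Ur : Set (sf G).left := Set.range j₀.left
  have hUo : IsOpen Ur := j₀.left.isOpenEmbedding.isOpen_range
  have hlift : ∀ y, NeronSplitP.pt (sf G) y ∈ Ur → ∃ a, a ≫ j₀ = y := by
    intro y hy
    have hr : Set.range y.left ⊆ Set.range j₀.left := by
      have : Subsingleton (𝟙_ (Over (Spec (CommRingCat.of (ResidueField R))))).left :=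
        inferInstanceAs (Subsingleton (PrimeSpectrum (ResidueField R)))
      rintro _ ⟨q, rfl⟩
      rw [Subsingleton.elim q (closedPoint _)]
      exact hy
    refine ⟨Over.homMk (IsOpenImmersion.lift j₀.left y.left hr) ?_, ?_⟩
    · show IsOpenImmersion.lift j₀.left y.left hr ≫ _ = _
      rw [← Over.w j₀, IsOpenImmersion.lift_fac_assoc, Over.w y]
    · exact Over.OverMorphism.ext (IsOpenImmersion.lift_fac _ _ _)
  have h1 : NeronSplitP.pt (sf G) 1 ∈ Ur := ⟨(1 : 𝟙_ _ ⟶ Red.Ga (Spec (CommRingCat.of (ResidueField R)))).left (closedPoint _), by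
    rw [← Scheme.Hom.comp_apply, ← Over.comp_left, MonObj.one_comp]⟩
  let C := connectedComponent (NeronSplitP.pt (sf G) 1)
  have hCirr : IsIrreducible C := by
    rw [show C = irreducibleComponent (GrpScheme.IdComponent.e₀ (sf G)) by
      rw [← GrpScheme.IdComponent.connectedComponent_eq]
      show connectedComponent (NeronSplitP.pt (sf G) 1) = _
      rw [NeronSplitP.one_eq]]
    exact isIrreducible_irreducibleComponent
  let tr := (GrpScheme.Basic.translate x⁻¹).hom.left
  have hVo : IsOpen (tr ⁻¹' Ur) := hUo.preimage tr.continuous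
  have hxV : NeronSplitP.pt (sf G) x ∈ tr ⁻¹' Ur := by
    show tr (NeronSplitP.pt (sf G) x) ∈ Ur
    rw [← NeronSplitP.pt_comp, NeronSplitP.comp_translate, inv_mul_cancel]
    exact h1
  obtain ⟨z, -, hz⟩ := hCirr.isPreirreducible Ur (tr ⁻¹' Ur) hUo hVo ⟨_, mem_connectedComponent, h1⟩
    ⟨_, (show connectedComponent (NeronSplitP.pt (sf G) x) = C from hx) ▸ mem_connectedComponent, hxV⟩
  obtain ⟨g, hg1, hg2⟩ := NeronSplitP.exists_pt_mem (sf G) ⟨z, hz⟩ (hUo.inter hVo).isLocallyClosed
  rw [Set.mem_preimage, ← NeronSplitP.pt_comp, NeronSplitP.comp_translate] at hg2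
  obtain ⟨a, ha⟩ := hlift g hg1
  obtain ⟨b, hb⟩ := hlift _ hg2
  refine ⟨a * b⁻¹, ?_⟩
  rw [MonObj.mul_comp, GrpObj.inv_comp, ha, hb, _root_.mul_inv_rev, _root_.inv_inv, mul_inv_cancel_left]

omit [IsAlgClosed (ResidueField R)] [Smooth G.hom] [IsOpenImmersion j₀.left] in
/-- The additive group lands in the unit component. -/
theorem j_mem (b : 𝟙_ (Over (Spec (CommRingCat.of (ResidueField R)))) ⟶ Red.Ga (Spec (CommRingCat.of (ResidueField R)))) :
    b ≫ j₀ ∈ NeronSplitP.unitPoints (sf G) := by
  have hpre : _root_.IsPreconnected (Set.univ : Set (Red.Ga (Spec (CommRingCat.of (ResidueField R)))).left) := by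
    have h1 : Function.Surjective (GaGm.ofA (K := ResidueField R)).left := fun z => ⟨(GaGm.toA).left z, by
      rw [← Scheme.Hom.comp_apply, ← Over.comp_left, GaGm.toA_ofA]; rfl⟩
    rw [← Set.image_univ_of_surjective h1]
    exact (isPreconnected_univ (α := PrimeSpectrum (Polynomial (ResidueField R)))).image _
      (GaGm.ofA (K := ResidueField R)).left.continuous.continuousOn
  refine connectedComponent_eq ?_ |>.symm
  show NeronSplitP.pt (sf G) (b ≫ j₀) ∈ connectedComponent (NeronSplitP.pt (sf G) 1)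
  refine ((hpre.image j₀.left j₀.left.continuous.continuousOn).subset_connectedComponent ?_) ?_
  · exact ⟨(1 : 𝟙_ _ ⟶ Red.Ga (Spec (CommRingCat.of (ResidueField R)))).left (closedPoint _), trivial, by
      rw [← Scheme.Hom.comp_apply, ← Over.comp_left, MonObj.one_comp]⟩
  · exact ⟨b.left (closedPoint _), trivial, rfl⟩

include e hT ht j₀ in
/-- The coordinate has finite cyclic image on the special points. -/
theorem exists_generator [IsAffineHom G.hom] [LocallyOfFiniteType G.hom] :
    ∃ x₀ : 𝟙_ (Over (Spec (CommRingCat.of (ResidueField R)))) ⟶ sf G,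
      ∀ x, ∃ m : ℕ, pa (up (x₀ ^ m)) t = pa (up x) t := by
  have : IsAffineHom (sf G).hom := MorphismProperty.pullback_snd (P := @IsAffineHom) G.hom _ ‹_›
  have : LocallyOfFiniteType (sf G).hom := MorphismProperty.pullback_snd (P := @LocallyOfFiniteType) G.hom _ ‹_›
  have : IsLocallyNoetherian (sf G).left := LocallyOfFiniteType.isLocallyNoetherian (sf G).hom
  have : IsAffine (sf G).left := isAffine_of_isAffineHom (sf G).hom
  have : IsNoetherian (sf G).left := { toCompactSpace := inferInstance, toIsLocallyNoetherian := inferInstance }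
  let χ : (𝟙_ (Over (Spec (CommRingCat.of (ResidueField R)))) ⟶ sf G) →* ResidueField R :=
    { toFun := fun x => pa (up x) t
      map_one' := chi_one e hT ht
      map_mul' := chi_mul e hT ht }
  have hconst : ∀ x y, irreducibleComponent (NeronSplitP.pt (sf G) x) = irreducibleComponent (NeronSplitP.pt (sf G) y) →
      χ x = χ y := by
    intro x y hxy
    have hmem : NeronSplitP.pt (sf G) y ∈ connectedComponent (NeronSplitP.pt (sf G) x) :=
      isIrreducible_irreducibleComponent.isConnected.subset_connectedComponent mem_irreducibleComponent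
        (hxy ▸ mem_irreducibleComponent)
    rw [NeronSplitP.mem_component_iff] at hmem
    obtain ⟨a, ha⟩ := exists_j_eq j₀ _ hmem
    rw [← mul_inv_cancel_left x y, map_mul, ← ha, show χ (a ≫ j₀) = 1 from chi_j e hT ht j₀ a, _root_.mul_one]
  let φ := χ.toHomUnits
  have hfin : Finite φ.range := by
    have : Finite (irreducibleComponents (sf G).left) := NoetherianSpace.finite_irreducibleComponents.to_subtype
    choose s hs using fun y : φ.range => MonoidHom.mem_range.1 y.2
    refine Finite.of_injective (fun y => (⟨irreducibleComponent (NeronSplitP.pt (sf G) (s y)),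
      irreducibleComponent_mem_irreducibleComponents _⟩ : irreducibleComponents (sf G).left)) fun y y' h => ?_
    apply Subtype.ext
    rw [← hs y, ← hs y']
    exact Units.ext (hconst _ _ (congrArg Subtype.val h))
  obtain ⟨⟨g, hg⟩, hgen⟩ := IsCyclic.exists_monoid_generator (α := φ.range)
  obtain ⟨x₀, rfl⟩ := MonoidHom.mem_range.1 hg
  refine ⟨x₀, fun x => ?_⟩
  obtain ⟨m, hm⟩ := Submonoid.mem_powers_iff _ _ |>.1 (hgen ⟨φ x, x, rfl⟩)
  refine ⟨m, ?_⟩
  have := congrArg (fun z : φ.range => ((z : (ResidueField R)ˣ) : ResidueField R)) hm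
  rw [SubmonoidClass.coe_pow, ← map_pow] at this
  exact this

end Comp

/-- Division in the additive group. -/
theorem ga_div {k : Type u} [Field k] [CharZero k]
    (a : 𝟙_ (Over (Spec (CommRingCat.of k))) ⟶ Red.Ga (Spec (CommRingCat.of k))) {N : ℕ} (hN : 0 < N) :
    ∃ b : 𝟙_ (Over (Spec (CommRingCat.of k))) ⟶ Red.Ga (Spec (CommRingCat.of k)), b ^ N = a := by
  have hpow : ∀ (n : ℕ) (b : 𝟙_ (Over (Spec (CommRingCat.of k))) ⟶ Red.Ga (Spec (CommRingCat.of k))),
      Red.gaFn (b ^ n) = n • Red.gaFn b := by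
    intro n b
    induction n with
    | zero => rw [pow_zero, zero_smul, GaGm.ga_one]
    | succ n ih => rw [pow_succ, RedPts.ga_mul, ih, succ_nsmul]
  let i := (Scheme.ΓSpecIso (CommRingCat.of k)).commRingCatIsoToRingEquiv
  obtain ⟨b, hb⟩ := RedPts.ga_surjective (X := 𝟙_ (Over (Spec (CommRingCat.of k)))) (i.symm (i (Red.gaFn a) / N))
  refine ⟨b, RedPts.ga_injective (i.injective ?_)⟩
  rw [hpow, hb, map_nsmul, RingEquiv.apply_symm_apply, nsmul_eq_mul, mul_div_cancel₀ _ (Nat.cast_ne_zero.2 hN.ne')]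

end Groth.Agent.GmModel
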